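import Cfsg.Agent.N9.Gal

/-! Character theoretic tools. -/

namespace Cfsg.Agent.N9

open Cfsg Cfsg.Agent.CharLib Subgroup
open scoped ComplexConjugate

variable {G : Type*} [Group G]

theorem deg_dvd [Finite G] {χ : G → ℂ} (hχ : IsIrrCharacter G χ) {d : ℕ} (hd : χ 1 = d) :
    d ∣ Nat.card G := by
  classical
  have := Fintype.ofFinite G
  have := Fintype.ofFinite (ConjClasses G)
  have h0 := isIrr_one_ne_zero hχ
  have h1 := inner_irr_self hχ
  have hc := isChar_classFun (isChar_of_irr hχ)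
  rw [inner_eq_inv (isChar_of_irr hχ), inv_mul_eq_one₀ card_ne_zero,
    sum_eq_sum_conjClasses (f := fun g => χ g * χ g⁻¹)
      (classFun_mul hc (isChar_classFun (isChar_inv (isChar_of_irr hχ))))] at h1
  have h2 : IsIntegral ℤ ((Nat.card G : ℂ) / χ 1) := by
    rw [h1, Finset.sum_div]
    refine IsIntegral.sum _ fun c _ => ?_
    have := (isIntegral_centralChar hχ c.out).mul (isChar_isIntegral (isChar_of_irr hχ) c.out⁻¹)
    convert this using 1
    rw [centralChar, card_cls]; ring
  rw [hd] at h2 h0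
  obtain ⟨w, hw⟩ := int_of_rat h2 (r := (Nat.card G : ℚ) / d) (by push_cast; rfl)
  rw [div_eq_iff h0] at hw
  exact Int.natCast_dvd_natCast.1 ⟨w, by exact_mod_cast (hw.trans (mul_comm _ _))⟩

theorem norm_lt [Finite G] [IsSimpleGroup G] (hG : ¬ IsMulCommutative G) {φ : G → ℂ}
    (hφ : IsIrrCharacter G φ) (h1 : φ ≠ fun _ => 1) {d : ℕ} (hd : φ 1 = d) {g : G} (hg : g ≠ 1) :
    ‖φ g‖ < d := by
  classical
  have := Fintype.ofFinite G
  have hle : ∀ x, ‖φ x‖ ≤ d := fun x => by
    simpa [hd] using isChar_norm_le (isChar_of_irr hφ) x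
  have h0 : (d : ℂ) ≠ 0 := hd ▸ isIrr_one_ne_zero hφ
  have h0' : (d : ℝ) ≠ 0 := by exact_mod_cast h0
  let Z : Subgroup G :=
    { carrier := {x | ‖φ x‖ = d}
      one_mem' := by simp [hd]
      inv_mem' := fun {x} hx => by
        change ‖φ x⁻¹‖ = d
        rw [← isChar_conj (isChar_of_irr hφ), Complex.norm_conj]; exact hx
      mul_mem' := fun {x y} hx hy => by
        by_contra hc
        have h2 := sum_cls_mul hφ x y
        have h3 : ‖∑ z ∈ cls x, φ (z * y)‖ < ∑ _z ∈ cls x, (d : ℝ) :=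
          (norm_sum_le _ _).trans_lt (Finset.sum_lt_sum (fun z _ => hle _)
            ⟨x, mem_cls.mpr (IsConj.refl x), lt_of_le_of_ne (hle _) hc⟩)
        rw [h2, centralChar, hd, norm_mul, norm_div, norm_mul, hx, hy, Finset.sum_const,
          card_cls, Complex.norm_natCast, Complex.norm_natCast, nsmul_eq_mul,
          mul_div_cancel_right₀ _ h0'] at h3
        exact h3.false }
  have hZ : Z.Normal := ⟨fun x hx y => by
    change ‖φ (y * x * y⁻¹)‖ = d
    rw [isChar_classFun (isChar_of_irr hφ)]; exact hx⟩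
  rcases hZ.eq_bot_or_eq_top with h | h
  · exact lt_of_le_of_ne (hle g) fun he => hg (mem_bot.mp (h ▸ (he : g ∈ Z)))
  exfalso
  have h2 := inner_irr_self hφ
  rw [inner_self_eq_normSq] at h2
  have h3 : ∀ x, ((Complex.normSq (φ x) : ℝ) : ℂ) = d ^ 2 := fun x => by
    have : x ∈ Z := h ▸ mem_top x
    rw [Complex.normSq_eq_norm_sq, show ‖φ x‖ = d from this]; push_cast; rfl
  simp only [h3, Finset.sum_const, Finset.card_univ, nsmul_eq_mul, ← Nat.card_eq_fintype_card] at h2
  rw [inv_mul_cancel_left₀ card_ne_zero] at h2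
  have h4 : d = 1 := by
    have : d ^ 2 = 1 := by exact_mod_cast h2
    exact (Nat.pow_eq_one.mp this).resolve_right two_ne_zero
  rw [h4, Nat.cast_one] at hd
  let L : G →* ℂ := ⟨⟨φ, hd⟩, isChar_mul_of_degree_one (isChar_of_irr hφ) hd⟩
  rcases (inferInstance : L.toHomUnits.ker.Normal).eq_bot_or_eq_top with h | h
  · refine hG ⟨⟨fun a b => (MonoidHom.ker_eq_bot_iff _).mp h ?_⟩⟩
    rw [map_mul, map_mul, mul_comm]
  · refine h1 (funext fun x => ?_)
    have : x ∈ L.toHomUnits.ker := h ▸ mem_top x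
    exact congrArg Units.val (MonoidHom.mem_ker.mp this)

theorem two_le_deg [Finite G] [IsSimpleGroup G] (hG : ¬ IsMulCommutative G) {φ : G → ℂ}
    (hφ : IsIrrCharacter G φ) (h1 : φ ≠ fun _ => 1) {d : ℕ} (hd : φ 1 = d) : 2 ≤ d := by
  by_contra hc
  obtain ⟨g, hg⟩ := exists_ne (1 : G)
  have h2 := norm_lt hG hφ h1 hd hg
  have h0 : (d : ℂ) ≠ 0 := hd ▸ isIrr_one_ne_zero hφ
  have h3 : d = 1 := by
    have : d ≠ 0 := by exact_mod_cast h0
    omega
  rw [h3, Nat.cast_one] at hd h2
  rw [norm_eq_one_of_mul hd (isChar_mul_of_degree_one (isChar_of_irr hφ) hd)] at h2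
  exact h2.false

open Classical in
/-- the character of the fixed space of `K` -/
noncomputable def avg [Fintype G] (K : Subgroup G) (χ : G → ℂ) (x : G) : ℂ :=
  (Nat.card K : ℂ)⁻¹ * ∑ u, if u ∈ K then χ (x * u) else 0

theorem card_cast_ne [Finite G] (K : Subgroup G) : (Nat.card K : ℂ) ≠ 0 :=
  Nat.cast_ne_zero.mpr Nat.card_pos.ne'

open Classical in
theorem sum_ite_mem [Fintype G] (K : Subgroup G) (f : G → ℂ) :
    ∑ u, (if u ∈ K then f u else 0) = ∑ u : K, f u := by
  rw [← Finset.sum_filter]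
  exact Finset.sum_subtype _ (by simp) f

open Classical in
theorem sum_ite_mem_const [Fintype G] (K : Subgroup G) (c : ℂ) :
    ∑ u, (if u ∈ K then c else 0) = Nat.card K * c := by
  rw [sum_ite_mem K fun _ => c]
  simp

theorem isChar_avg_normal [Fintype G] (K : Subgroup G) [hK : K.Normal] {χ : G → ℂ}
    (hχ : IsCharacter G χ) : IsCharacter G (avg K χ) := by
  classical
  refine isChar_induction (P := fun χ => IsCharacter G (avg K χ)) ?_ ?_ ?_ hχ
  · convert isChar_zero
    ext x; simp [avg]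
  · intro φ hφ
    have h0 := isIrr_one_ne_zero hφ
    have h1 : ∀ x, avg K φ x = avg K φ 1 / φ 1 * φ x := by
      intro x
      have := irr_convolution (f := fun u => if u ∈ K then 1 else 0) (fun a b => by
        simp only [hK.mem_comm_iff (a := b * a), inv_mul_cancel_left]) hφ x
      simp only [avg, one_mul, ite_mul, zero_mul,
        classFun_mul_comm (isChar_classFun (isChar_of_irr hφ)) _ x] at this ⊢
      rw [div_mul_eq_mul_div, eq_div_iff h0]
      linear_combination (Nat.card K : ℂ)⁻¹ * this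
    have h2 : ∀ v ∈ K, avg K φ v = avg K φ 1 := by
      intro v hv
      simp only [avg, one_mul]
      congr 1
      refine Fintype.sum_equiv (Equiv.mulLeft v) _ _ fun u => ?_
      simp [K.mul_mem_cancel_left hv]
    have h3 : avg K φ 1 / φ 1 * avg K φ 1 = avg K φ 1 := by
      conv_lhs => enter [2]; rw [avg]
      rw [mul_left_comm, Finset.mul_sum]
      have : ∀ u, avg K φ 1 / φ 1 * (if u ∈ K then φ (1 * u) else 0) =
          if u ∈ K then avg K φ 1 else 0 := fun u => by
        split_ifs with h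
        · rw [one_mul, ← h1, h2 u h]
        · simp
      simp only [this, sum_ite_mem_const]
      rw [inv_mul_cancel_left₀ (card_cast_ne K)]
    by_cases h4 : avg K φ 1 = 0
    · convert isChar_zero
      ext x; rw [h1, h4]; simp
    · convert isChar_of_irr hφ
      ext x; rw [h1, (mul_eq_right₀ h4).mp h3, one_mul]
  · intro a b _ _ ha hb
    convert isChar_add ha hb
    ext x
    simp only [avg, Pi.add_apply, ← mul_add, ← Finset.sum_add_distrib]
    congr 1
    refine Finset.sum_congr rfl fun u _ => ?_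
    split_ifs <;> simp

theorem isChar_avg [Fintype G] (K : Subgroup G) {χ : G → ℂ} (hχ : IsCharacter G χ) :
    IsCharacter (normalizer (K : Set G)) (fun x => avg K χ x) := by
  classical
  have := isChar_avg_normal (K.subgroupOf (normalizer (K : Set G)))
    (isChar_comp (normalizer (K : Set G)).subtype hχ)
  convert this with x
  simp only [avg]
  rw [Nat.card_congr (subgroupOfEquivOfLe le_normalizer).toEquiv]
  congr 1
  rw [← Finset.sum_filter, ← Finset.sum_filter]
  symm
  refine Finset.sum_bij (fun u _ => (u : G)) ?_ ?_ ?_ ?_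
  · intro u hu; simpa [mem_subgroupOf] using hu
  · intro a _ b _ h; exact Subtype.ext h
  · intro b hb
    simp only [Finset.mem_filter, Finset.mem_univ, true_and] at hb
    exact ⟨⟨b, le_normalizer hb⟩, by simpa [mem_subgroupOf] using hb, rfl⟩
  · intro a _; rfl

theorem avg_one [Fintype G] (K : Subgroup G) {χ : G → ℂ} (hχ : IsCharacter G χ) :
    ∃ m : ℕ, avg K χ 1 = m := by
  have := isChar_degree (isChar_avg K hχ)
  exact this

theorem isIntegral_avg [Fintype G] (K : Subgroup G) {χ : G → ℂ} (hχ : IsCharacter G χ) {x : G}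
    (hx : x ∈ normalizer (K : Set G)) : IsIntegral ℤ (avg K χ x) :=
  isChar_isIntegral (isChar_avg K hχ) ⟨x, hx⟩

theorem norm_avg_le [Fintype G] (K : Subgroup G) {χ : G → ℂ} (hχ : IsCharacter G χ) {x : G}
    (hx : x ∈ normalizer (K : Set G)) : ‖avg K χ x‖ ≤ (avg K χ 1).re :=
  isChar_norm_le (isChar_avg K hχ) ⟨x, hx⟩

/-- a character with constant value `c` on `K \\ 1` -/
theorem card_dvd_of_const [Finite G] (K : Subgroup G) {χ : G → ℂ} (hχ : IsCharacter G χ)
    {d c : ℤ} (hd : χ 1 = d) (hc : ∀ u ∈ K, u ≠ 1 → χ u = c) : (Nat.card K : ℤ) ∣ d - c := by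
  classical
  have := Fintype.ofFinite G
  obtain ⟨m, hm⟩ := avg_one K hχ
  have h1 : ∀ u, (if u ∈ K then χ (1 * u) else 0) =
      (if u ∈ K then (c : ℂ) else 0) + if u = 1 then (d : ℂ) - c else 0 := by
    intro u
    by_cases h : u = 1
    · simp [h, hd]
    · by_cases h' : u ∈ K <;> simp [h, h', hc u]
  simp only [avg, h1, Finset.sum_add_distrib, sum_ite_mem_const, Finset.sum_ite_eq',
    Finset.mem_univ, if_true] at hm
  rw [inv_mul_eq_iff_eq_mul₀ (card_cast_ne K)] at hm
  refine ⟨m - c, ?_⟩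
  have : (d : ℂ) - c = Nat.card K * (m - c) := by linear_combination hm
  exact_mod_cast this

theorem pair [Fintype G] {f ψ : G → ℂ} (hf : IsClassFunction G f) (hψ : IsIrrCharacter G ψ) :
    ∑ x, ∑ y, f x * f y * ψ (x * y) = (∑ x, f x * ψ x) ^ 2 / ψ 1 := by
  have h0 := isIrr_one_ne_zero hψ
  rw [eq_div_iff h0, Finset.sum_comm, Finset.sum_mul, sq, Finset.mul_sum]
  refine Finset.sum_congr rfl fun y _ => ?_
  have := irr_convolution hf hψ y
  have h1 : ∑ x, f x * f y * ψ (x * y) = f y * ∑ x, f x * ψ (x * y) := by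
    rw [Finset.mul_sum]; exact Finset.sum_congr rfl fun x _ => by ring
  rw [h1]
  linear_combination f y * this

theorem card_cent_conj (g h : G) : Nat.card (centralizer ({h * g * h⁻¹} : Set G)) =
    Nat.card (centralizer ({g} : Set G)) := by
  refine Nat.card_congr ⟨fun x => ⟨h⁻¹ * x * h, ?_⟩, fun x => ⟨h * x * h⁻¹, ?_⟩, fun x => ?_,
    fun x => ?_⟩
  · have := mem_centralizer_singleton_iff.mp x.2
    rw [mem_centralizer_singleton_iff]
    calc h⁻¹ * x * h * g = h⁻¹ * (x * (h * g * h⁻¹)) * h := by group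
      _ = _ := by rw [this]; group
  · have := mem_centralizer_singleton_iff.mp x.2
    rw [mem_centralizer_singleton_iff]
    calc h * x * h⁻¹ * (h * g * h⁻¹) = h * (x * g) * h⁻¹ := by group
      _ = _ := by rw [this]; group
  · apply Subtype.ext; simp [mul_assoc]
  · apply Subtype.ext; simp [mul_assoc]

theorem card_cent_of_isConj {a b : G} (h : IsConj a b) :
    Nat.card (centralizer ({a} : Set G)) = Nat.card (centralizer ({b} : Set G)) := by
  obtain ⟨c, rfl⟩ := isConj_iff.mp h
  exact (card_cent_conj a c).symm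

theorem class_sum_mem [Fintype G] (S : AddSubgroup ℂ) {z : G → ℂ} (hz : IsClassFunction G z)
    (h : ∀ g, z g ∈ S) :
    ∑ g, (Nat.card (centralizer ({g} : Set G)) : ℂ) / Nat.card G * z g ∈ S := by
  classical
  have := Fintype.ofFinite (ConjClasses G)
  rw [sum_eq_sum_conjClasses (f := fun g => (Nat.card (centralizer ({g} : Set G)) : ℂ) /
    Nat.card G * z g) (fun a b => by simp only [card_cent_conj, hz a b])]
  refine S.sum_mem fun c _ => ?_
  rw [card_cls, ← (centralizer ({c.out} : Set G)).card_mul_index]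
  have h1 := card_cast_ne (centralizer ({c.out} : Set G))
  have h2 : ((centralizer ({c.out} : Set G)).index : ℂ) ≠ 0 :=
    Nat.cast_ne_zero.mpr index_ne_zero_of_finite
  convert h c.out using 1
  push_cast
  field_simp

theorem norm_two [Fintype G] {D : G → ℂ} (hD : IsGeneralizedCharacter G D)
    (h : classInner D D = 2) : ∃ φ ψ, IsIrrCharacter G φ ∧ IsIrrCharacter G ψ ∧
      (D = φ + ψ ∨ D = φ - ψ ∨ D = -(φ + ψ)) := by
  classical
  obtain ⟨m, hm⟩ := isGen_exists_mult hD
  have h1 : ∑ φ, m φ ^ 2 = 2 := by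
    rw [hm, inner_sum_smul_sum_smul] at h
    have : ∑ φ, ((m φ ^ 2 : ℤ) : ℂ) = 2 := by
      rw [← h]; exact Finset.sum_congr rfl fun φ _ => by simp [sq]
    exact_mod_cast this
  obtain ⟨φ, -, hφ⟩ := Finset.exists_ne_zero_of_sum_ne_zero (h1 ▸ two_ne_zero)
  have h2 : m φ ^ 2 ≤ 2 := h1 ▸ Finset.single_le_sum (f := fun φ => m φ ^ 2)
    (fun _ _ => sq_nonneg _) (Finset.mem_univ φ)
  have h3 : classInner D φ = m φ := by rw [hm, inner_sum_smul_irr]
  have h4 : classInner (φ : G → ℂ) D = m φ := by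
    rw [← h3]; exact inner_gen_comm (isGen_of_irr φ.2) hD
  have h5 : m φ = 1 ∨ m φ = -1 := by
    have : m φ ≠ 0 := fun h => hφ (by simp [h])
    have h6 : m φ < 2 := by nlinarith
    have h7 : -2 < m φ := by nlinarith
    omega
  rcases h5 with h5 | h5
  · rcases isIrr_or_neg_of_norm_one (isGen_sub hD (isGen_of_irr φ.2)) (by
      rw [CharLib.inner_sub_left, CharLib.inner_sub_right, CharLib.inner_sub_right, h, h3, h4, inner_irr_self φ.2, h5]
      norm_num) with h6 | h6
    · exact ⟨_, _, φ.2, h6, Or.inl (by ring)⟩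
    · exact ⟨_, _, φ.2, h6, Or.inr (Or.inl (by ring))⟩
  · rcases isIrr_or_neg_of_norm_one (isGen_add hD (isGen_of_irr φ.2)) (by
      rw [CharLib.inner_add_left, CharLib.inner_add_right, CharLib.inner_add_right, h, h3, h4, inner_irr_self φ.2, h5]
      norm_num) with h6 | h6
    · exact ⟨_, _, h6, φ.2, Or.inr (Or.inl (by ring))⟩
    · exact ⟨_, _, φ.2, h6, Or.inr (Or.inr (by ring))⟩

open Classical in
/-- number of ways to write `g` as a product of two conjugates of `t` -/
noncomputable def np [Fintype G] (t g : G) : ℕ :=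
  (Finset.univ.filter fun x => IsConj t x ∧ IsConj t (x⁻¹ * g)).card

theorem sum_np [Fintype G] (t : G) {ψ : G → ℂ} (hψ : IsIrrCharacter G ψ) :
    ∑ g, (np t g : ℂ) * ψ g = ((centralizer ({t} : Set G)).index * ψ t) ^ 2 / ψ 1 := by
  classical
  have hc := isChar_classFun (isChar_of_irr hψ)
  have h := pair (f := fun x => if IsConj t x then 1 else 0) (fun a b => by
    have : IsConj t (b * a * b⁻¹) ↔ IsConj t a :=
      ⟨fun h => h.trans (isConj_iff.mpr ⟨b, rfl⟩).symm, fun h => h.trans (isConj_iff.mpr ⟨b, rfl⟩)⟩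
    simp only [this]) hψ
  have h1 : ∑ x, (if IsConj t x then (1 : ℂ) else 0) * ψ x =
      (centralizer ({t} : Set G)).index * ψ t := by
    rw [← card_cls, cls, Finset.card_filter]
    push_cast
    rw [Finset.sum_mul]
    refine Finset.sum_congr rfl fun x _ => ?_
    split_ifs with h
    · rw [classFun_of_isConj hc h]
    · simp
  rw [h1] at h
  rw [← h]
  simp only [np, Finset.card_filter]
  push_cast
  simp only [Finset.sum_mul]
  rw [Finset.sum_comm]
  refine Finset.sum_congr rfl fun x _ => ?_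
  refine (Fintype.sum_equiv (Equiv.mulLeft x) _ _ fun y => ?_).symm
  by_cases h1 : IsConj t x <;> by_cases h2 : IsConj t y <;> simp [-isConj_iff, h1, h2]

theorem inv_zpow_mul {t g : G} (h : t * g * t⁻¹ = g⁻¹) (n : ℤ) : t * g ^ n = (g ^ n)⁻¹ * t := by
  have := congrArg (· ^ n) h
  simp only [conj_zpow, inv_zpow] at this
  rw [← this]; group

theorem isConj_zpow_mul [Finite G] {t g : G} (h : t * g * t⁻¹ = g⁻¹) (ho : Odd (orderOf g))
    (n : ℤ) : IsConj t (g ^ n * t) := by
  obtain ⟨k, hk⟩ := ho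
  refine isConj_iff.mpr ⟨g ^ (n * (k + 1)), ?_⟩
  rw [mul_assoc, ← zpow_neg, inv_zpow_mul h, zpow_neg, inv_inv, ← mul_assoc, ← zpow_add,
    show n * (k + 1) + n * (k + 1) = n + (orderOf g : ℕ) * n by rw [hk]; push_cast; ring,
    zpow_add, zpow_mul, zpow_natCast, pow_orderOf_eq_one, one_zpow, mul_one]

theorem le_np [Fintype G] {t t' g : G} (ht : IsConj t t') (h2 : t' * t' = 1)
    (h : t' * g * t'⁻¹ = g⁻¹) (ho : Odd (orderOf g)) : orderOf g ≤ np t g := by
  classical
  rw [← Nat.card_zpowers, np, ← Fintype.card_coe, ← Nat.card_eq_fintype_card]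
  refine Nat.card_le_card_of_injective (fun x => ⟨x * t', ?_⟩) ?_
  · obtain ⟨_, n, rfl⟩ := x
    simp only [Finset.mem_filter, Finset.mem_univ, true_and]
    refine ⟨ht.trans (isConj_zpow_mul h ho n), ?_⟩
    have h3 : (g ^ n * t')⁻¹ * g = g ^ (n - 1) * t' := by
      rw [mul_inv_rev, inv_eq_of_mul_eq_one_right h2, mul_assoc, ← zpow_neg, ← zpow_add_one,
        inv_zpow_mul h, ← zpow_neg]
      congr 2; ring
    rw [h3]
    exact ht.trans (isConj_zpow_mul h ho _)
  · intro a b hab
    exact Subtype.ext (mul_right_cancel (congrArg Subtype.val hab))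

theorem exists_of_np [Fintype G] {t g : G} (h2 : t * t = 1) (h : np t g ≠ 0) :
    ∃ t', IsConj t t' ∧ t' * t' = 1 ∧ t' * g * t'⁻¹ = g⁻¹ := by
  classical
  obtain ⟨x, hx⟩ := Finset.card_ne_zero.mp h
  simp only [Finset.mem_filter, Finset.mem_univ, true_and] at hx
  have key : ∀ y, IsConj t y → y * y = 1 := fun y hy => by
    obtain ⟨c, rfl⟩ := isConj_iff.mp hy
    calc _ = c * (t * t) * c⁻¹ := by group
      _ = 1 := by rw [h2]; group
  have h3 := key _ hx.1
  have h4 := key _ hx.2
  refine ⟨x, hx.1, h3, eq_inv_of_mul_eq_one_left ?_⟩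
  rw [← h4, ← eq_inv_of_mul_eq_one_left h3]
  group

theorem np_conj [Fintype G] (t g h : G) : np t (h * g * h⁻¹) = np t g := by
  classical
  refine Finset.card_bij (fun x _ => h⁻¹ * x * h) ?_ ?_ ?_
  · intro x hx
    simp only [Finset.mem_filter, Finset.mem_univ, true_and] at hx ⊢
    exact ⟨hx.1.trans (isConj_iff.mpr ⟨h⁻¹, by group⟩), hx.2.trans (isConj_iff.mpr ⟨h⁻¹, by group⟩)⟩
  · intro a _ b _ hab
    simpa using hab
  · intro x hx
    simp only [Finset.mem_filter, Finset.mem_univ, true_and] at hx ⊢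
    exact ⟨h * x * h⁻¹, ⟨hx.1.trans (isConj_iff.mpr ⟨h, rfl⟩),
      hx.2.trans (isConj_iff.mpr ⟨h, by group⟩)⟩, by group⟩

/-- Thompson's transfer lemma -/
theorem exists_conj_mem [Finite G] [IsSimpleGroup G] (hG : ¬ IsMulCommutative G) (T : Subgroup G)
    (hT : T.index % 4 = 2) {u : G} (hu : u * u = 1) : ∃ x, x⁻¹ * u * x ∈ T := by
  classical
  by_contra hc
  push Not at hc
  have := Fintype.ofFinite (G ⧸ T)
  let s := Equiv.Perm.sign.comp (MulAction.toPermHom G (G ⧸ T))
  have h1 : s u = -1 := by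
    change Equiv.Perm.sign (MulAction.toPermHom G (G ⧸ T) u) = -1
    rw [Equiv.Perm.sign_of_pow_two_eq_one (by rw [← map_pow, sq, hu, map_one])]
    have : IsEmpty (Function.fixedPoints (MulAction.toPermHom G (G ⧸ T) u)) := ⟨by
      rintro ⟨y, hy⟩
      obtain ⟨x, rfl⟩ := QuotientGroup.mk_surjective y
      have h2 : ((u * x : G) : G ⧸ T) = x := hy
      exact hc x (by simpa [mul_assoc] using QuotientGroup.eq.mp h2.symm)⟩
    rw [Fintype.card_eq_zero (α := Function.fixedPoints _), ← Nat.card_eq_fintype_card,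
      ← index_eq_card]
    exact Odd.neg_one_pow (Nat.odd_iff.mpr (by omega))
  rcases (inferInstance : s.ker.Normal).eq_bot_or_eq_top with h | h
  · refine hG ⟨⟨fun a b => (MonoidHom.ker_eq_bot_iff _).mp h ?_⟩⟩
    rw [map_mul, map_mul, mul_comm]
  · have : u ∈ s.ker := h ▸ mem_top u
    rw [MonoidHom.mem_ker, h1] at this
    exact absurd this (by decide)

end Cfsg.Agent.N9
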