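import Mathlib.Data.ZMod.Basic
import Mathlib.Tactic

/-! Elementary number theory. -/

namespace Cfsg.Agent.N9

theorem nt_red {q s a f : ℕ} {A ε : ℤ} (hs : 0 < s) (h2 : (q : ℤ) ∣ 2 ^ s - 1)
    (h : (q : ℤ) ∣ A * 2 ^ a - ε * 2 ^ f) : ∃ v < s, (q : ℤ) ∣ A - ε * 2 ^ v := by
  rw [← ZMod.intCast_zmod_eq_zero_iff_dvd] at h h2
  push_cast at h h2
  rw [sub_eq_zero] at h h2
  refine ⟨(f + (s - 1) * a) % s, Nat.mod_lt _ hs, ?_⟩
  rw [← ZMod.intCast_zmod_eq_zero_iff_dvd]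
  push_cast
  rw [← pow_eq_pow_mod _ h2, pow_add, ← mul_assoc, ← h, mul_assoc, ← pow_add,
    show a + (s - 1) * a = s * a by obtain ⟨s, rfl⟩ := Nat.exists_eq_add_of_lt hs; simp; ring,
    pow_mul, h2, one_pow, mul_one, sub_self]

theorem nt_small {q s v : ℕ} {A : ℤ} (hs : 4 ≤ s) (hq : 2 * 2 ^ s ≤ q + 1) (hv : v ≤ s)
    (h0 : 0 < A) (h9 : A ≤ 9) : ¬ (q : ℤ) ∣ A + 2 ^ v ∧ ((q : ℤ) ∣ A - 2 ^ v → A = 2 ^ v) := by
  have h1 : (2 : ℤ) ^ v ≤ 2 ^ s := pow_le_pow_right₀ one_le_two hv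
  have h2 : (2 : ℤ) ^ 4 ≤ 2 ^ s := pow_le_pow_right₀ one_le_two hs
  have h3 : (0 : ℤ) < 2 ^ v := by positivity
  have h4 : (2 * 2 ^ s : ℤ) ≤ q + 1 := by exact_mod_cast hq
  exact ⟨fun h => by have := Int.le_of_dvd (by omega) h; omega,
    fun h => sub_eq_zero.mp (Int.eq_zero_of_abs_lt_dvd h (by rw [abs_lt]; omega))⟩

theorem nt_ne {v : ℕ} {A : ℤ} (h : A = 3 ∨ A = 9) : A ≠ 2 ^ v := by
  rcases v with _ | v
  · omega
  · rw [pow_succ]; omega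

theorem nt_fermat {q i a e : ℕ} (hq : q.Prime) (hq2 : q ≠ 2) (hq3 : q ≠ 3) (h : 2 ^ i + 1 = q)
    (h1 : e ∣ q - 1) (h2 : (q : ℤ) ∣ (9 * 2 ^ a : ℕ) - e) : q = 5 ∨ q = 17 := by
  by_cases hi : i ≤ 4
  · subst h
    interval_cases i <;> first | omega | exact absurd hq (by norm_num)
  exfalso
  obtain ⟨f, -, rfl⟩ := (Nat.dvd_prime_pow Nat.prime_two (i := e) (m := i)).mp (by simpa [← h] using h1)
  have h3 : (q : ℤ) = 2 ^ i + 1 := by exact_mod_cast h.symm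
  obtain ⟨v, hv, h4⟩ := nt_red (q := q) (s := 2 * i) (a := a) (f := f) (A := 9) (ε := 1) (by omega)
    ⟨2 ^ i - 1, by rw [h3]; ring⟩ (by simpa using h2)
  obtain ⟨s, rfl⟩ : ∃ s, i = s + 1 := ⟨i - 1, by omega⟩
  have h5 := fun v hv => nt_small (q := q) (s := s) (v := v) (A := 9) (by omega)
    (by rw [← h, pow_succ]; omega) hv (by norm_num) le_rfl
  by_cases hv' : v ≤ s
  · exact nt_ne (Or.inr rfl) ((h5 v hv').2 (by simpa using h4))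
  · obtain ⟨w, rfl⟩ : ∃ w, v = w + (s + 1) := ⟨v - (s + 1), by omega⟩
    refine (h5 w (by omega)).1 ?_
    exact (dvd_add h4 (dvd_mul_left (q : ℤ) (2 ^ w))).trans (dvd_of_eq (by rw [h3]; ring))

theorem nt_mersenne {q i a e : ℕ} (hq : q.Prime) (hq3 : q ≠ 3) (h : q + 1 = 2 ^ i)
    (h1 : e ∣ q - 1) (h2 : (q : ℤ) ∣ (9 * 2 ^ a : ℕ) - e) (h3 : e ∣ 9 * 2 ^ a) (h9 : e ≤ 9) :
    (q = 7 ∧ e ≤ 2) ∨ (e = 9 ∧ 5 ≤ i) := by
  have hq1 := hq.one_lt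
  by_cases hi : i ≤ 4
  · have : q = 7 := by
      interval_cases i <;> try omega
      exact absurd hq (by rw [show q = 15 by omega]; norm_num)
    subst this
    refine Or.inl ⟨rfl, ?_⟩
    have h4 : 2 ^ a % 7 = 1 ∨ 2 ^ a % 7 = 2 ∨ 2 ^ a % 7 = 4 := by
      clear h2 h3
      induction a with
      | zero => simp
      | succ a ih => rw [pow_succ]; omega
    interval_cases e <;> omega
  obtain ⟨s, rfl⟩ : ∃ s, i = s + 1 := ⟨i - 1, by omega⟩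
  have h4 : (q : ℤ) ∣ 2 ^ (s + 1) - 1 := dvd_of_eq (by
    have : (q : ℤ) + 1 = 2 ^ (s + 1) := by exact_mod_cast h
    omega)
  have h5 : ∀ A : ℤ, A = 3 ∨ A = 9 → ∀ f : ℕ, ¬ (q : ℤ) ∣ A * 2 ^ a - 2 ^ f := fun A hA f e => by
    obtain ⟨v, hv, h6⟩ := nt_red (ε := 1) (f := f) s.succ_pos h4 (by simpa using e)
    exact nt_ne hA ((nt_small (q := q) (s := s) (v := v) (A := A) (by omega)
      (by rw [h, pow_succ]; omega) (by omega) (by omega) (by omega)).2 (by simpa using h6))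
  have h6 : ∀ f : ℕ, ¬ (q : ℤ) ∣ 3 * (3 * 2 ^ a - 2 ^ f) := fun f e =>
    h5 3 (Or.inl rfl) f (((Nat.prime_iff_prime_int.mp hq).dvd_or_dvd e).resolve_left fun e' =>
      hq3 ((Nat.prime_dvd_prime_iff_eq hq Nat.prime_three).mp (by exact_mod_cast e')))
  have h7 : ∀ p, p.Prime → p ∣ 9 * 2 ^ a → p ≤ 3 := fun p hp e => by
    rcases (Nat.Prime.dvd_mul hp).mp e with e | e
    · exact Nat.le_of_dvd three_pos (hp.dvd_of_dvd_pow (n := 2) e)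
    · exact (Nat.le_of_dvd two_pos (hp.dvd_of_dvd_pow e)).trans (by norm_num)
  have h8 : 4 ∣ q + 1 := h ▸ pow_dvd_pow 2 (show 2 ≤ s + 1 by omega)
  push_cast at h2
  interval_cases e
  · omega
  · exact absurd h2 (h5 9 (Or.inr rfl) 0)
  · exact absurd h2 (h5 9 (Or.inr rfl) 1)
  · exact absurd (by convert h2 using 1; ring) (h6 0)
  · omega
  · exact absurd (h7 5 (by norm_num) h3) (by norm_num)
  · exact absurd (by convert h2 using 1; ring) (h6 1)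
  · exact absurd (h7 7 (by norm_num) h3) (by norm_num)
  · omega
  · exact Or.inr ⟨rfl, by omega⟩

theorem nt_three {q i a d : ℕ} {c : ℤ} (h : q + 1 = 2 ^ i) (hi : 5 ≤ i) (hd : d ∣ 9 * 2 ^ a)
    (hc : c = -1 ∨ c = -2) : ¬ (q : ℤ) ∣ d - c := fun e => by
  obtain ⟨A, v, h1, h2, rfl⟩ := (Nat.dvd_mul ..).mp hd
  obtain ⟨r, -, rfl⟩ := (Nat.dvd_prime_pow Nat.prime_two).mp h2
  obtain ⟨s, rfl⟩ : ∃ s, i = s + 1 := ⟨i - 1, by omega⟩
  have h4 : (q : ℤ) ∣ 2 ^ (s + 1) - 1 := dvd_of_eq (by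
    have : (q : ℤ) + 1 = 2 ^ (s + 1) := by exact_mod_cast h
    omega)
  obtain ⟨f, rfl⟩ : ∃ f : ℕ, c = -1 * 2 ^ f := by
    rcases hc with rfl | rfl
    exacts [⟨0, rfl⟩, ⟨1, rfl⟩]
  obtain ⟨v, hv, h6⟩ := nt_red (A := A) (a := r) (ε := -1) (f := f) s.succ_pos h4 (by simpa using e)
  have := Nat.le_of_dvd (by norm_num) h1
  have := Nat.pos_of_dvd_of_pos h1 (by norm_num)
  exact (nt_small (q := q) (s := s) (v := v) (A := A) (by omega)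
      (by rw [h, pow_succ]; omega) (by omega) (by omega) (by omega)).1 (by simpa using h6)

theorem sq_support {ι : Type*} [Fintype ι] {f : ι → ℤ} (s : Finset ι)
    (h : ∑ i, f i ^ 2 ≤ ∑ i ∈ s, f i ^ 2) {i : ι} (hi : i ∉ s) : f i = 0 := by
  classical
  have := Finset.sum_le_sum_of_subset_of_nonneg (Finset.subset_univ (insert i s))
    (f := fun i => f i ^ 2) fun _ _ _ => sq_nonneg _
  rw [Finset.sum_insert hi] at this
  nlinarith

end Cfsg.Agent.N9
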