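import Cfsg.Agent.N9.Loc

/-! Existence of the data and the counting lemmas. -/

namespace Cfsg.Agent.N9

open Cfsg.Agent.Thom Subgroup
open scoped Pointwise

variable {G : Type*} [Group G] [Finite G]

theorem exists_dat {m : ℕ} (h : Nat.card G = 9 * m) (hm : ¬ 3 ∣ m)
    (h3 : 3 ≤ Nat.card {C : ConjClasses G // ∃ g ∈ C.carrier, g ≠ 1 ∧ orderOf g ∣ 9}) :
    ∃ B R r, Dat (G := G) m B R r := by
  classical
  have := Fintype.ofFinite G
  obtain ⟨R⟩ : Nonempty (Sylow 3 G) := inferInstance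
  have hc := comm_syl h hm R
  have hcomm : ∀ {x y : G}, x ∈ (R : Subgroup G) → y ∈ (R : Subgroup G) → x * y = y * x :=
    fun {x y} hx hy => congrArg Subtype.val (mul_comm' (⟨x, hx⟩ : (R : Subgroup G)) ⟨y, hy⟩)
  let S : Finset G := (Finset.univ.filter (· ∈ (R : Subgroup G))).erase 1
  have hS : ∀ x, x ∈ S ↔ x ≠ 1 ∧ x ∈ (R : Subgroup G) := by simp [S]
  have hS8 : S.card = 8 := by
    rw [Finset.card_erase_of_mem (by simp), ← Fintype.card_subtype, ← Nat.card_eq_fintype_card,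
      card_syl h hm R]
  have hT : 3 ≤ (S.image ConjClasses.mk).card := by
    refine h3.trans ?_
    rw [← Fintype.card_coe, ← Nat.card_eq_fintype_card]
    refine Nat.card_le_card_of_injective (fun C => ⟨C.1, ?_⟩)
      fun a b hab => Subtype.ext (Subtype.mk.inj hab)
    obtain ⟨g, h1, h2, h4⟩ := C.2
    obtain ⟨n, -, hn⟩ := (sylow_sylIn R le_top).conj_le
      (PE.zpowers ⟨2, orderOf_dvd_iff_pow_eq_one.mp h4⟩) le_top
    refine Finset.mem_image.mpr ⟨_, (hS _).mpr ⟨by simpa using h2, hn g (mem_zpowers g)⟩, ?_⟩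
    rw [← ConjClasses.mem_carrier_iff_mk_eq.mp h1, ConjClasses.mk_eq_mk_iff_isConj]
    exact (isConj_iff.mpr ⟨n, rfl⟩).symm
  obtain ⟨_, hy, hF⟩ := Finset.exists_card_fiber_lt_of_card_lt_mul (f := ConjClasses.mk)
    (s := S) (t := S.image ConjClasses.mk) (n := 3) (by omega)
  obtain ⟨w, hw, rfl⟩ := Finset.mem_image.mp hy
  let F := S.filter fun x => ConjClasses.mk x = ConjClasses.mk w
  have hF1 : ∀ n ∈ normalizer ((R : Subgroup G) : Set G), ∀ x ∈ F, n * x * n⁻¹ ∈ F := by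
    intro n hn x hx
    rw [Finset.mem_filter, hS] at hx ⊢
    refine ⟨⟨by simpa using hx.1.1, (mem_normalizer_iff.mp hn x).mp hx.1.2⟩, ?_⟩
    rw [← hx.2, ConjClasses.mk_eq_mk_iff_isConj]
    exact (isConj_iff.mpr ⟨n, rfl⟩).symm
  have hwF : w ∈ F := Finset.mem_filter.mpr ⟨hw, rfl⟩
  obtain ⟨v, hv, hv1, hv2⟩ : ∃ v ∈ (R : Subgroup G), v ≠ 1 ∧
      ∀ n ∈ normalizer ((R : Subgroup G) : Set G), n * v * n⁻¹ ∈ zpowers v := by
    by_cases h1 : ∀ x ∈ F, x = w
    · exact ⟨w, ((hS w).mp hw).2, ((hS w).mp hw).1, fun n hn => by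
        rw [h1 _ (hF1 n hn w hwF)]; exact mem_zpowers w⟩
    push Not at h1
    obtain ⟨w', hw', h1⟩ := h1
    have h2 : ∀ x ∈ F, x = w ∨ x = w' := fun x hx => by
      by_contra h2
      push Not at h2
      exact absurd (Finset.two_lt_card.mpr ⟨x, hx, w, hwF, w', hw', h2.1, h2.2, h1.symm⟩)
        (by change F.card < 3 at hF; omega)
    have h4 := ((hS w').mp (Finset.mem_filter.mp hw').1).2
    by_cases h5 : w' * w = 1
    · refine ⟨w, ((hS w).mp hw).2, ((hS w).mp hw).1, fun n hn => ?_⟩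
      rcases h2 _ (hF1 n hn w hwF) with h6 | h6 <;> rw [h6]
      · exact mem_zpowers w
      · rw [eq_inv_of_mul_eq_one_left h5]; exact inv_mem (mem_zpowers w)
    · refine ⟨w' * w, mul_mem h4 ((hS w).mp hw).2, h5, fun n hn => ?_⟩
      have h6 : n * w' * n⁻¹ ≠ n * w * n⁻¹ := by simpa using h1
      rw [← conj_mul]
      rcases h2 _ (hF1 n hn w hwF) with h7 | h7 <;> rcases h2 _ (hF1 n hn w' hw') with h8 | h8
      · exact absurd (h8.trans h7.symm) h6
      · rw [h7, h8]; exact mem_zpowers _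
      · rw [h7, h8, hcomm ((hS w).mp hw).2 h4]; exact mem_zpowers _
      · exact absurd (h8.trans h7.symm) h6
  have h9 : v ^ 9 = 1 := by
    rw [← card_syl h hm R]
    exact congrArg Subtype.val (pow_card_eq_one' (x := (⟨v, hv⟩ : (R : Subgroup G))))
  obtain ⟨j, hj⟩ : ∃ j : ℕ, orderOf (v ^ j) = 3 := by
    by_cases h1 : v ^ 3 = 1
    · exact ⟨1, orderOf_eq_prime (by rwa [pow_one]) (by rwa [pow_one])⟩
    · exact ⟨3, orderOf_eq_prime (by rwa [← pow_mul]) h1⟩
  refine ⟨_, R, v ^ j, h, hm, pow_mem hv j, hj, fun n hn => ?_, fun g => Iff.rfl⟩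
  obtain ⟨i, hi⟩ := hv2 n hn
  refine ⟨i, ?_⟩
  simp only at hi ⊢
  rw [← conj_pow, ← hi, ← zpow_natCast, ← zpow_natCast, ← zpow_mul, ← zpow_mul, mul_comm]

namespace Dat

variable {m : ℕ} {B : G → Prop} {R : Sylow 3 G} {r : G} (D : Dat m B R r)
include D

omit D [Finite G] in
theorem mem_of_nrm {h : G} (hh : PE 3 h) (hn : h ∈ normalizer ((R : Subgroup G) : Set G)) :
    h ∈ (R : Subgroup G) :=
  ((hh.zpowers.inf_normalizer_sylow R).le ⟨mem_zpowers h, hn⟩).2

theorem le_cent : (R : Subgroup G) ≤ centralizer ((R : Subgroup G) : Set G) :=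
  fun _ hx _ hy => D.comm hy hx

theorem exists_mem₂ {h k : G} (hh : PE 3 h) (hk : PE 3 k) (hc : Commute h k) :
    ∃ P r', Dat m B P r' ∧ h ∈ (P : Subgroup G) ∧ k ∈ (P : Subgroup G) := by
  obtain ⟨P, r', D', h1⟩ := D.exists_mem hk
  obtain ⟨n, hn, h2⟩ := (sylow_sylIn P (N := centralizer {k}) fun x hx =>
    mem_centralizer_singleton_iff.mpr (D'.comm hx h1)).conj_le hh.zpowers
    (zpowers_le.mpr (mem_centralizer_singleton_iff.mpr hc))
  refine ⟨_, _, D'.conj n⁻¹, mem_smul_sylow.mpr ?_, mem_smul_sylow.mpr ?_⟩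
  · simpa using h2 h (mem_zpowers h)
  · simpa [mem_centralizer_singleton_iff.mp hn] using h1

open Classical in
theorem count [Fintype G] [Fintype (Sylow 3 G)] (g : G) :
    (Finset.univ.filter fun k => (k ^ 9 = 1 ∧ ¬ B k) ∧ g ∈ centralizer ({k} : Set G) ∧
      B (k⁻¹ * g)).card = if B g then 0 else 1 + (Finset.univ.filter fun P : Sylow 3 G =>
        g ∈ centralizer ((P : Subgroup G) : Set G)).card * 2 := by
  split_ifs with hg
  · refine Finset.card_eq_zero.mpr (Finset.filter_eq_empty_iff.mpr fun k _ ⟨h1, h2, h3⟩ => ?_)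
    obtain ⟨L, hL, -⟩ := D.exists_L h1.1 h1.2
    have h4 : k ∈ centralizer ({k} : Set G) := mem_centralizer_singleton_iff.mpr rfl
    have := L.mul_mem ((hL _).mpr ⟨h2, hg⟩) (L.inv_mem ((hL _).mpr ⟨mul_mem (inv_mem h4) h2, h3⟩))
    exact h1.2 ((hL k).mp (by simpa using this)).2
  obtain ⟨h, ha, u, hb, h1, h2, h3⟩ := exists_decomp (p := 3) g
  have hz : ∀ {x k : G}, x ∈ zpowers g → g ∈ centralizer ({k} : Set G) → Commute x k :=
    fun hx hk => mem_centralizer_singleton_iff.mp (zpowers_le.mpr hk hx)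
  have hgg : ∀ {x : G}, x ∈ zpowers g → g ∈ centralizer ({x} : Set G) := fun hx =>
    mem_centralizer_singleton_iff.mpr (hz hx (mem_centralizer_singleton_iff.mpr rfl)).symm
  have hh : ¬ B h := by rwa [h3, D.B_mul_pp (hz ha (hgg hb)) h2] at hg
  have loc : ∀ {P r' k}, Dat m B P r' → h ∈ (P : Subgroup G) → k ∈ (P : Subgroup G) →
      g ∈ centralizer ({k} : Set G) → (B (k⁻¹ * g) ↔ k⁻¹ * h ∈ zpowers r') :=
    fun {P r' k} D' e1 e2 e3 => by
      rw [h3, ← mul_assoc, D.B_mul_pp ((hz hb e3).symm.inv_left.mul_left (hz ha (hgg hb))) h2,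
        D'.B_iff (mul_mem (inv_mem e2) e1)]
  have hP : ∀ P : Sylow 3 G, g ∈ centralizer ((P : Subgroup G) : Set G) → h ∈ (P : Subgroup G) :=
    fun P e => mem_of_nrm h1 (centralizer_le_normalizer _ (zpowers_le.mpr e ha))
  set S := Finset.univ.filter fun k => (k ^ 9 = 1 ∧ ¬ B k) ∧ g ∈ centralizer ({k} : Set G) ∧
      B (k⁻¹ * g) with hS
  have hhS : h ∈ S := by
    refine Finset.mem_filter.mpr ⟨Finset.mem_univ _, ⟨D.pe_iff.mp h1, hh⟩, hgg ha, ?_⟩
    rw [h3, inv_mul_cancel_left]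
    exact D.B_pp h2
  rw [← Finset.card_erase_add_one hhS, add_comm, add_right_inj, ← mul_one (S.erase h).card]
  refine Finset.card_mul_eq_card_mul (fun k (P : Sylow 3 G) => k ∈ (P : Subgroup G)) ?_ ?_
  · intro k hk
    obtain ⟨e1, -, e2, e3, e4⟩ := by simpa only [hS, Finset.mem_erase, Finset.mem_filter] using hk
    obtain ⟨P, r', D', e5, e6⟩ := D.exists_mem₂ h1 (D.pe_iff.mpr e2.1) (hz ha e3)
    have e7 : ∀ W : Subgroup G, h ∈ W → k ∈ W → (P : Subgroup G) ≤ W := fun W f1 f2 => by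
      refine D'.induct e5 (fun f => hh ((D'.B_iff e5).mpr f)) W ?_ f1
      have f3 := W.mul_mem (W.inv_mem f2) f1
      rcases (tri_zpowers D'.ord).mp ((loc D' e5 e6 e3).mp e4) with f | f | f
      · exact absurd (inv_mul_eq_one.mp f) e1
      · rwa [f] at f3
      · rwa [f, inv_mem_iff] at f3
    refine Finset.card_eq_one.mpr ⟨P, Finset.eq_singleton_iff_unique_mem.mpr ⟨?_, fun P' e8 => ?_⟩⟩
    · simp only [Finset.mem_bipartiteAbove, Finset.mem_filter, Finset.mem_univ, true_and]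
      refine ⟨fun x hx => mem_centralizer_singleton_iff.mp (e7 (centralizer {g}) ?_ ?_ hx), e6⟩
      · exact mem_centralizer_singleton_iff.mpr (mem_centralizer_singleton_iff.mp (hgg ha)).symm
      · exact mem_centralizer_singleton_iff.mpr (mem_centralizer_singleton_iff.mp e3).symm
    · simp only [Finset.mem_bipartiteAbove, Finset.mem_filter, Finset.mem_univ, true_and] at e8
      exact (sylow_eq_of_le (e7 _ (hP P' e8.1) e8.2)).symm
  · intro P e1
    replace e1 := (Finset.mem_filter.mp e1).2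
    obtain ⟨r', D'⟩ := D.all P
    have e2 := hP P e1
    have e3 : ∀ k ∈ (P : Subgroup G), g ∈ centralizer ({k} : Set G) := fun k hk =>
      mem_centralizer_singleton_iff.mpr (e1 k hk).symm
    have e4 : r' ≠ 1 := fun e => by simpa [e] using D'.ord
    have e5 : r' ≠ r'⁻¹ := fun e => by
      have := orderOf_dvd_of_pow_eq_one (n := 2) (x := r') (by rw [sq]; nth_rw 1 [e]; simp)
      rw [D'.ord] at this; omega
    refine Finset.card_eq_two.mpr ⟨h * r'⁻¹, h * r', by simpa using e5.symm, Finset.ext fun k => ?_⟩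
    simp only [Finset.mem_bipartiteBelow, hS, Finset.mem_erase, Finset.mem_filter, Finset.mem_univ,
      true_and, Finset.mem_insert, Finset.mem_singleton]
    constructor
    · rintro ⟨⟨f1, -, f2, f3⟩, f4⟩
      rcases (tri_zpowers D'.ord).mp ((loc D' e2 f4 f2).mp f3) with f | f | f
      · exact absurd (inv_mul_eq_one.mp f) f1
      · left; rw [← f]; group
      · right; rw [← inv_inv r', ← f]; group
    · have key : ∀ s ∈ zpowers r', s ≠ 1 → (h * s ≠ h ∧ ((h * s) ^ 9 = 1 ∧ ¬ B (h * s)) ∧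
          g ∈ centralizer ({h * s} : Set G) ∧ B ((h * s)⁻¹ * g)) ∧ h * s ∈ (P : Subgroup G) := by
        intro s hs hs1
        have f1 := mul_mem e2 (D'.le hs)
        refine ⟨⟨by simpa using hs1, ⟨D'.pow_nine f1, fun f => hh ?_⟩, e3 _ f1, ?_⟩, f1⟩
        · rw [D'.B_iff f1, mul_mem_cancel_right hs] at f
          exact (D'.B_iff e2).mpr f
        · rw [loc D' e2 f1 (e3 _ f1)]
          simpa using hs
      rintro (rfl | rfl)
      · exact key _ (inv_mem (mem_zpowers _)) (inv_ne_one.mpr e4)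
      · exact key _ (mem_zpowers _) e4

theorem reps [IsSimpleGroup G] : ∃ E : ℕ, Nat.card (normalizer ((R : Subgroup G) : Set G)) =
    E * Nat.card (centralizer ((R : Subgroup G) : Set G)) ∧ E ∣ 4 ∧ ∃ S : Finset G,
      (∀ k, k ^ 9 = 1 → ¬ B k → ∃ x ∈ S, IsConj x k) ∧ S.card * E ≤ E + 4 := by
  classical
  obtain ⟨k, hk, hk'⟩ := D.exists_notMem
  obtain ⟨a, ha, ha'⟩ := D.exists_inv hk hk'
  set N := normalizer ((R : Subgroup G) : Set G) with hN
  set C := centralizer ((R : Subgroup G) : Set G) with hC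
  have hCN : C ≤ N := centralizer_le_normalizer _
  let S2 : Subgroup G :=
    { carrier := {n | n ∈ N ∧ k⁻¹ * (n * k * n⁻¹) ∈ zpowers r}
      one_mem' := ⟨one_mem _, by simp⟩
      mul_mem' := fun {x y} hx hy => ⟨mul_mem hx.1 hy.1, by
        simpa [mul_assoc] using mul_mem hx.2 (D.nrm' hx.1 hy.2)⟩
      inv_mem' := fun {x} hx => ⟨inv_mem hx.1, by
        simpa [mul_assoc] using inv_mem (D.nrm' (inv_mem hx.1) hx.2)⟩ }
  have tri' : ∀ n ∈ N, k⁻¹ * (n * k * n⁻¹) ∈ zpowers r ∨ k * (n * k * n⁻¹) ∈ zpowers r :=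
    fun n hn => (D.tri hk hk' ((mem_normalizer_iff.mp hn k).mp hk)).resolve_left fun h =>
      hk' (by simpa [mul_assoc] using D.nrm' (inv_mem hn) h)
  have h2 : S2.relIndex N ∣ 2 := index_dvd_two_iff.mpr ⟨⟨a, ha⟩, fun b => by
    rcases tri' b b.2 with h | h
    · exact Or.inr ⟨b.2, h⟩
    · refine Or.inl ⟨mul_mem b.2 ha, ?_⟩
      have := mul_mem (inv_mem h) (D.nrm' b.2 ha')
      have h3 := (D.comm hk ((mem_normalizer_iff.mp b.2 k).mp hk)).eq
      rw [h3] at this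
      simpa [mul_assoc] using this⟩
  have h1 : (centralizer ({r} : Set G)).relIndex N ∣ 2 := by
    have h3 : ∀ n ∈ N, n ∉ centralizer ({r} : Set G) → n * r * n⁻¹ = r⁻¹ := fun n hn hn' => by
      rcases (tri_zpowers D.ord).mp (D.nrm n hn) with h | h | h
      · have := D.ord
        simp [show r = 1 by simpa using h] at this
      · exact absurd (mem_centralizer_singleton_iff.mpr (mul_inv_eq_iff_eq_mul.mp h)) hn'
      · exact h
    by_cases h : N ≤ centralizer {r}
    · rw [relIndex_eq_one.mpr h]; exact one_dvd _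
    obtain ⟨c, hc, hc'⟩ := SetLike.not_le_iff_exists.mp h
    refine index_dvd_two_iff.mpr ⟨⟨c, hc⟩, fun b => or_iff_not_imp_right.mpr fun hb => ?_⟩
    refine mem_centralizer_singleton_iff.mpr (mul_inv_eq_iff_eq_mul.mp ?_)
    calc (b : G) * c * r * ((b : G) * c)⁻¹ = b * (c * r * c⁻¹) * (b : G)⁻¹ := by group
      _ = (b * r * (b : G)⁻¹)⁻¹ := by rw [h3 c hc hc']; group
      _ = r := by rw [h3 b b.2 hb, inv_inv]
  have cent : ∀ n, Commute n r → Commute n k → n ∈ C := fun n e1 e2 x hx =>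
    mem_centralizer_singleton_iff.mp (D.induct hk hk' (centralizer {n})
      (mem_centralizer_singleton_iff.mpr e1.symm) (mem_centralizer_singleton_iff.mpr e2.symm) hx)
  have h3 : centralizer ({r} : Set G) ⊓ S2 ≤ C := by
    rintro n ⟨e1, e2, e3⟩
    have e4 : n ^ m ∈ C := D.le_cent (mem_of_nrm
      ⟨2, by rw [← pow_mul, mul_comm]; exact D.card ▸ pow_card_eq_one'⟩ (pow_mem e2 m))
    have e0 : Commute n r := mem_centralizer_singleton_iff.mp e1
    have e5 : n ^ 3 ∈ C := by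
      refine cent _ (e0.pow_left 3) (mul_inv_eq_iff_eq_mul.mp ?_)
      obtain ⟨s, hs⟩ : ∃ s, s = k⁻¹ * (n * k * n⁻¹) := ⟨_, rfl⟩
      rw [← hs] at e3
      have e6 : s ^ 3 = 1 := by
        rw [← D.ord, ← Nat.card_zpowers]
        exact congrArg Subtype.val (pow_card_eq_one' (x := (⟨s, e3⟩ : zpowers r)))
      have e7 : n * s * n⁻¹ = s := by
        obtain ⟨i, rfl⟩ := e3
        exact mul_inv_eq_iff_eq_mul.mpr (e0.zpow_right i)
      have e8 : n * k * n⁻¹ = k * s := by rw [hs]; group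
      calc n ^ 3 * k * (n ^ 3)⁻¹ = n * (n * (n * k * n⁻¹) * n⁻¹) * n⁻¹ := by
            simp only [pow_three, mul_inv_rev, mul_assoc]
        _ = k * s ^ 3 := by
            simp only [e8, ← conj_mul, e7]; simp only [pow_three, mul_assoc]
        _ = k := by rw [e6, mul_one]
    have e6 := Nat.gcd_eq_gcd_ab 3 m
    rw [(Nat.prime_three.coprime_iff_not_dvd.mpr D.cop).gcd_eq_one] at e6
    have := mul_mem (zpow_mem e5 (Nat.gcdA 3 m)) (zpow_mem e4 (Nat.gcdB 3 m))
    rwa [← zpow_natCast, ← zpow_natCast, ← zpow_mul, ← zpow_mul, ← zpow_add, ← e6, Nat.cast_one,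
      zpow_one] at this
  have hE : Nat.card N = C.relIndex N * Nat.card C := by
    rw [relIndex, ← (C.subgroupOf N).index_mul_card,
      Nat.card_congr (subgroupOfEquivOfLe hCN).toEquiv]
  have h4 : C.relIndex N ≤ 4 :=
    (relIndex_le_of_le_left h3 index_ne_zero_of_finite).trans (relIndex_inf_le.trans
      (Nat.mul_le_mul (Nat.le_of_dvd two_pos h1) (Nat.le_of_dvd two_pos h2)))
  have h5 : ¬ 3 ∣ C.relIndex N := fun h => R.not_dvd_index
    (h.trans ((relIndex_dvd_index_of_le hCN).trans (index_dvd_of_le D.le_cent)))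
  have h6 : C.relIndex N ≠ 0 := index_ne_zero_of_finite
  have base : ∀ x, x ^ 9 = 1 → ¬ B x → IsConj k x ∨ IsConj (k * r) x ∨ IsConj (k * r⁻¹) x := by
    have e1 : ∀ y, k⁻¹ * y ∈ zpowers r → y = k ∨ y = k * r ∨ y = k * r⁻¹ := fun y hy => by
      simpa [inv_mul_eq_iff_eq_mul] using (tri_zpowers D.ord).mp hy
    intro x e2 e3
    obtain ⟨n, -, hn⟩ := (sylow_sylIn R le_top).conj_le (D.pe_iff.mpr e2).zpowers le_top
    have e4 := hn x (mem_zpowers x)
    have e5 : ∃ y, IsConj y x ∧ k⁻¹ * y ∈ zpowers r := by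
      rcases D.tri hk hk' e4 with h | h | h
      · exact absurd ((D.B_conj _ _).mp ((D.B_iff e4).mpr h)) e3
      · exact ⟨_, (isConj_iff.mpr ⟨n, rfl⟩).symm, h⟩
      · refine ⟨_, (isConj_iff.mpr ⟨a * n, rfl⟩).symm, ?_⟩
        have := mul_mem (inv_mem ha') (D.nrm' ha h)
        rw [(D.comm hk ((mem_normalizer_iff.mp ha k).mp hk)).eq] at this
        simpa [mul_assoc] using this
    obtain ⟨y, e6, e7⟩ := e5
    rcases e1 y e7 with rfl | rfl | rfl <;> simp only [e6, true_or, or_true]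
  refine ⟨_, hE, by interval_cases C.relIndex N <;> omega, ?_⟩
  by_cases h7 : S2 ≤ C
  · refine ⟨{k, k * r, k * r⁻¹}, fun x e1 e2 => by simpa using base x e1 e2, ?_⟩
    have := (relIndex_le_of_le_left h7 index_ne_zero_of_finite).trans (Nat.le_of_dvd two_pos h2)
    have e3 : ({k, k * r, k * r⁻¹} : Finset G).card ≤ 3 := Finset.card_le_three
    nlinarith
  obtain ⟨n, e1, e2⟩ := SetLike.not_le_iff_exists.mp h7
  have key : ∀ x y : G, (∀ z, z ^ 9 = 1 → ¬ B z → IsConj x z ∨ IsConj y z) → ∃ S : Finset G,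
      (∀ k, k ^ 9 = 1 → ¬ B k → ∃ x ∈ S, IsConj x k) ∧
        S.card * C.relIndex N ≤ C.relIndex N + 4 := fun x y h => by
    refine ⟨{x, y}, fun z e1 e2 => by simpa using h z e1 e2, ?_⟩
    have e3 : ({x, y} : Finset G).card ≤ 2 := Finset.card_le_two
    nlinarith
  rcases (tri_zpowers D.ord).mp e1.2 with h | h | h
  · refine key k (k * r) fun z f1 f2 => ?_
    have e3 := inv_mul_eq_one.mp h
    rcases (tri_zpowers D.ord).mp (D.nrm n e1.1) with h' | h' | h'
    · have := D.ord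
      simp [show r = 1 by simpa using h'] at this
    · exact absurd (cent n (mul_inv_eq_iff_eq_mul.mp h') (mul_inv_eq_iff_eq_mul.mp e3.symm)) e2
    · rcases base z f1 f2 with f | f | f
      exacts [Or.inl f, Or.inr f,
        Or.inr ((isConj_iff.mpr ⟨n, by rw [← conj_mul, ← e3, h']⟩).trans f)]
  · refine key (k * r) (k * r⁻¹) fun z f1 f2 => ?_
    rcases base z f1 f2 with f | f | f
    exacts [Or.inl ((isConj_iff.mpr ⟨n, inv_mul_eq_iff_eq_mul.mp h⟩).symm.trans f), Or.inl f,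
      Or.inr f]
  · refine key (k * r) (k * r⁻¹) fun z f1 f2 => ?_
    rcases base z f1 f2 with f | f | f
    exacts [Or.inr ((isConj_iff.mpr ⟨n, inv_mul_eq_iff_eq_mul.mp h⟩).symm.trans f), Or.inl f,
      Or.inr f]

end Dat

end Cfsg.Agent.N9
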