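import Cfsg.Agent.N9.Theta
import Cfsg.Agent.SC3.Char

/-! The degrees of the two characters. -/

namespace Cfsg.Agent.N9

open Cfsg Cfsg.Agent.CharLib Cfsg.Agent.Thom Subgroup
open scoped Pointwise ComplexConjugate

theorem card_modEq_smul {H α : Type*} [Group H] [MulAction H α] [DecidableEq α] {g : H}
    (h9 : g ^ 9 = 1) (s : Finset α) (hs : ∀ a ∈ s, g • a ∈ s) :
    s.card ≡ (s.filter fun a => g • a = a).card [MOD 3] := by
  let f : Function.End s := fun a => ⟨g • a.1, hs a a.2⟩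
  have h1 : ∀ (n : ℕ) (a : s), ((f ^ n) a : α) = g ^ n • (a : α) := fun n => by
    induction n with
    | zero => intro a; rw [pow_zero, pow_zero, one_smul]; rfl
    | succ n ih => intro a; rw [pow_succ, pow_succ, mul_smul]; exact ih (f a)
  have := Equiv.Perm.card_fixedPoints_modEq (p := 3) (n := 2) (f := f)
    (funext fun a => Subtype.ext ((h1 9 a).trans (by rw [h9, one_smul]; rfl)))
  rw [Fintype.card_coe] at this
  convert this
  rw [← Fintype.card_coe]
  refine Fintype.card_congr ⟨fun a => ⟨⟨a, (Finset.mem_filter.mp a.2).1⟩,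
    Subtype.ext (Finset.mem_filter.mp a.2).2⟩, fun a => ⟨a.1, Finset.mem_filter.mpr
      ⟨a.1.2, congrArg Subtype.val a.2⟩⟩, fun _ => rfl, fun _ => rfl⟩

theorem nt_geom {y : ℤ} {j i : ℕ} (hy : Odd y) (hj : Odd j) (h : y ^ j - 1 ∣ 2 ^ i) :
    y ^ j - 1 = y - 1 ∨ y ^ j - 1 = 1 - y := by
  have h1 : ∀ n : ℕ, (∑ t ∈ Finset.range n, y ^ t) % 2 = n % 2 := fun n => by
    induction n with
    | zero => simp
    | succ n ih =>
      have := Int.odd_iff.mp (hy.pow (n := n))
      rw [Finset.sum_range_succ]; push_cast; omega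
  have h2 : Odd (∑ t ∈ Finset.range j, y ^ t) := by
    have := Nat.odd_iff.mp hj
    rw [Int.odd_iff, h1]; omega
  rw [← geom_sum_mul] at h ⊢
  rcases Int.isUnit_iff.mp (((Int.isCoprime_two_right.mpr h2).pow_right (n := i)).isUnit_of_dvd
    ((dvd_mul_right _ _).trans h)) with e | e <;> simp [e]

theorem nt_deg {x q a b : ℕ} (hq : q.Prime) (hq2 : q ≠ 2) (hq3 : q ≠ 3) (hx : 2 ≤ x)
    (h1 : x ∣ 9 * (2 ^ a * q ^ b)) (h2 : x + 1 ∣ 9 * (2 ^ a * q ^ b)) (h3 : ¬ 3 ∣ x * (x + 1)) :
    (x = q ∧ ∃ i, x + 1 = 2 ^ i) ∨ (x + 1 = q ∧ ∃ i, x = 2 ^ i) := by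
  have key : ∀ y, y ∣ 9 * (2 ^ a * q ^ b) → ¬ 3 ∣ y → ∃ i j, y = 2 ^ i * q ^ j := fun y e1 e2 => by
    obtain ⟨u, v, f1, f2, rfl⟩ := (Nat.dvd_mul ..).mp (Nat.Coprime.dvd_of_dvd_mul_left
      (Nat.Coprime.pow_right 2 (Nat.prime_three.coprime_iff_not_dvd.mpr e2).symm) e1)
    obtain ⟨i, -, rfl⟩ := (Nat.dvd_prime_pow Nat.prime_two).mp f1
    obtain ⟨j, -, rfl⟩ := (Nat.dvd_prime_pow hq).mp f2
    exact ⟨i, j, rfl⟩
  obtain ⟨i, j, e1⟩ := key x h1 fun e => h3 (e.mul_right _)
  obtain ⟨i', j', e2⟩ := key (x + 1) h2 fun e => h3 (e.mul_left _)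
  have ho := hq.odd_of_ne_two hq2
  have ho' : Odd (q : ℤ) := by exact_mod_cast ho
  have hq1 := hq.one_lt
  have c1 : i = 0 ∨ i' = 0 := by
    by_contra hc
    push Not at hc
    have := (dvd_pow_self 2 hc.1).mul_right (q ^ j)
    have := (dvd_pow_self 2 hc.2).mul_right (q ^ j')
    omega
  have c2 : j = 0 ∨ j' = 0 := by
    by_contra hc
    push Not at hc
    have f1 := (dvd_pow_self q hc.1).mul_left (2 ^ i)
    have f2 := (dvd_pow_self q hc.2).mul_left (2 ^ i')
    rw [← e1] at f1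
    rw [← e2, Nat.dvd_add_right f1] at f2
    exact hq.one_lt.ne' (Nat.dvd_one.mp f2)
  rcases c1 with rfl | rfl <;> rcases c2 with rfl | rfl <;>
    simp only [pow_zero, one_mul, mul_one] at e1 e2
  · omega
  · refine Or.inl ⟨?_, _, e2⟩
    rcases Nat.even_or_odd j with ⟨l, rfl⟩ | hj
    · obtain ⟨s, hs⟩ := ho.pow (n := l)
      rw [pow_add, hs] at e1
      rcases i' with _ | _ | i'
      · omega
      · omega
      · rw [e1, pow_succ, pow_succ] at e2
        have : (2 * s + 1) * (2 * s + 1) = 4 * (s * s + s) + 1 := by ring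
        omega
    · have f1 : (-q : ℤ) ^ j = -x := by rw [hj.neg_pow, e1]; push_cast; rfl
      have f2 : (x : ℤ) + 1 = 2 ^ i' := by exact_mod_cast e2
      have := nt_geom (i := i') ho'.neg hj (by rw [f1, ← f2]; exact ⟨-1, by ring⟩)
      omega
  · refine Or.inr ⟨?_, _, e1⟩
    rcases Nat.even_or_odd j' with ⟨l, rfl⟩ | hj
    · have f1 : ¬ 3 ∣ q ^ l := fun e => hq3
        ((Nat.prime_dvd_prime_iff_eq Nat.prime_three hq).mp (Nat.prime_three.dvd_of_dvd_pow e)).symm
      rw [pow_add] at e2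
      refine absurd (Dvd.dvd.mul_right ?_ _) h3
      have : q ^ l % 3 = 1 ∨ q ^ l % 3 = 2 := by omega
      have f2 := congrArg (· % 3) e2
      simp only [Nat.mul_mod (q ^ l)] at f2
      rcases this with f | f <;> rw [f] at f2 <;> omega
    · have f1 : (q : ℤ) ^ j' = x + 1 := by exact_mod_cast e2.symm
      have f2 : (x : ℤ) = 2 ^ i := by exact_mod_cast e1
      have := nt_geom (i := i) ho' hj (by rw [f1, ← f2]; simp)
      omega
  · omega

variable {G : Type*} [Group G]

theorem van [Finite G] [IsSimpleGroup G] (hG : ¬ IsMulCommutative G) {φ : G → ℂ}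
    (hφ : IsIrrCharacter G φ) (h1 : φ ≠ fun _ => 1) {d : ℕ} (hd : φ 1 = d) {g : G} (hg : g ≠ 1)
    (h : (centralizer ({g} : Set G)).index.Coprime d) : φ g = 0 :=
  (burnside hφ hd h).resolve_right (norm_lt hG hφ h1 hd hg).ne

/-- a character of prime power degree and an abelian Sylow subgroup -/
theorem cent_dvd [Finite G] [IsSimpleGroup G] (hG : ¬ IsMulCommutative G) {φ : G → ℂ}
    (hφ : IsIrrCharacter G φ) (h1 : φ ≠ fun _ => 1) {p j : ℕ} [hp : Fact p.Prime]
    (hd : φ 1 = (p ^ j : ℕ)) (P : Sylow p G) :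
    Nat.card (centralizer ((P : Subgroup G) : Set G)) ∣ p ^ j := by
  have := card_dvd_of_const (centralizer ((P : Subgroup G) : Set G)) (isChar_of_irr hφ)
    (d := (p ^ j : ℕ)) (c := 0) (by exact_mod_cast hd) fun u hu hu1 => by
      rw [Int.cast_zero]
      refine van hG hφ h1 hd hu1 (Nat.Coprime.pow_right _ (hp.out.coprime_iff_not_dvd.mpr
        fun e => P.not_dvd_index (e.trans (index_dvd_of_le fun x hx => ?_))).symm)
      exact mem_centralizer_singleton_iff.mpr (hu x hx)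
  exact_mod_cast (sub_zero ((p ^ j : ℕ) : ℤ)) ▸ this

theorem prime_deg [Finite G] [IsSimpleGroup G] (hG : ¬ IsMulCommutative G) {φ : G → ℂ}
    (hφ : IsIrrCharacter G φ) (h1 : φ ≠ fun _ => 1) {q : ℕ} (hq : q.Prime) (hd : φ 1 = q) :
    ¬ q ^ 2 ∣ Nat.card G ∧ ∀ z : G, orderOf z = q → centralizer {z} = zpowers z := by
  have := Fact.mk hq
  have h0 := deg_dvd hφ hd
  have key : ∀ Q : Sylow q G, Nat.card Q = q ∧
      Nat.card (centralizer ((Q : Subgroup G) : Set G)) ∣ q := fun Q => by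
    have h2 := cent_dvd hG hφ h1 (j := 1) (by rwa [pow_one]) Q
    rw [pow_one] at h2
    have h3 := Q.dvd_card_of_dvd_card h0
    have : Nontrivial Q := Finite.one_lt_card_iff_nontrivial.mp
      (hq.one_lt.trans_le (Nat.le_of_dvd Nat.card_pos h3))
    have := Q.2.center_nontrivial
    obtain ⟨z, hz⟩ := exists_ne (1 : center Q)
    have h4 : φ z = 0 := van hG hφ h1 hd (fun e => hz (Subtype.ext (Subtype.ext e)))
      (hq.coprime_iff_not_dvd.mpr fun e => Q.not_dvd_index (e.trans (index_dvd_of_le fun x hx =>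
        mem_centralizer_singleton_iff.mpr (congrArg Subtype.val (z.2.comm ⟨x, hx⟩).symm)))).symm
    have h5 : (Q : Subgroup G) ≤ centralizer ((Q : Subgroup G) : Set G) := fun x hx y hy => by
      have e := SC3.comm_ker hq Q.2 (isChar_comp (Q : Subgroup G).subtype (isChar_of_irr hφ))
        hd z.2 h4 ⟨y, hy⟩ ⟨x, hx⟩
      by_contra hc
      have := norm_lt hG hφ h1 hd (g := y * x * (x * y)⁻¹) (by rwa [Ne, mul_inv_eq_one])
      rw [show φ (y * x * (x * y)⁻¹) = φ 1 from e, hd] at this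
      simp at this
    exact ⟨Nat.dvd_antisymm ((card_dvd_of_le h5).trans h2) h3, h2⟩
  constructor
  · obtain ⟨Q⟩ : Nonempty (Sylow q G) := inferInstance
    intro e
    rw [← (Q : Subgroup G).card_mul_index, (key Q).1, sq] at e
    exact Q.not_dvd_index (Nat.dvd_of_mul_dvd_mul_left hq.pos e)
  · intro z hz
    obtain ⟨Q, hQ⟩ := (PE.zpowers (p := q) ⟨1, by rw [pow_one, ← hz, pow_orderOf_eq_one]⟩
      ).exists_le_sylow
    have h2 : zpowers z = Q := eq_of_le_of_card_ge hQ (by rw [(key Q).1, Nat.card_zpowers, hz])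
    refine (eq_of_le_of_card_ge (zpowers_le.mpr (mem_centralizer_singleton_iff.mpr rfl)) ?_).symm
    rw [Nat.card_zpowers, hz, ← centralizer_closure, ← zpowers_eq_closure, h2]
    exact Nat.le_of_dvd hq.pos (key Q).2

theorem cong_p [Finite G] {p : ℕ} (hp : p.Prime) {χ : G → ℂ} (hχ : IsCharacter G χ) {g : G}
    (hg : PE p g) {c d : ℤ} (hc : χ g = c) (hd : χ 1 = d) : (p : ℤ) ∣ c - d := by
  obtain ⟨M, hM⟩ := exists_isPModular hp
  obtain ⟨k, hk⟩ := hg
  have := memLI_char_sub_degree hM hχ hk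
  rw [hc, hd, ← Int.cast_sub] at this
  exact (memLI_intCast_iff hM _).mp this

theorem int_inv [Finite G] {c : G → ℤ} (h : IsCharacter G fun g => c g) (g : G) : c g⁻¹ = c g := by
  have := isChar_conj h g
  simp only [map_intCast] at this
  exact_mod_cast this.symm

variable [Fintype G] {m : ℕ} {B : G → Prop} {R : Sylow 3 G} {r : G} {c c' : G → ℤ}

theorem sum_mul_int {φ : G → ℂ} (c : G → ℤ) :
    ∑ g, φ g * c g = Nat.card G * classInner φ fun g => c g := by
  simp only [classInner, map_intCast, mul_inv_cancel_left₀ (card_ne_zero (G := G))]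

omit [Fintype G] in
theorem Th.deg (T : Th B c c') (D : Dat m B R r) : c' 1 = c 1 + 1 := by
  have := T.eq 1
  rw [th, if_pos D.B_one] at this
  have : (c' 1 : ℂ) = c 1 + 1 := by linear_combination this
  exact_mod_cast this

theorem Th.sums (T : Th B c c') (D : Dat m B R r) : ∑ g, th B g * 1 = Nat.card G ∧
    ∑ g, th B g * c g = Nat.card G ∧ ∑ g, th B g * c' g = -Nat.card G := by
  have h1 : th B = (fun _ => 1) + (fun g => (c g : ℂ)) - fun g => (c' g : ℂ) := funext T.eq
  have h2 : (fun g => (c g : ℂ)) ≠ fun g => (c' g : ℂ) := fun e => by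
    have := congrFun e 1
    simp [T.deg D] at this
  have h3 := sum_mul_int (φ := th B) fun _ => 1
  rw [Int.cast_one] at h3
  rw [h3, sum_mul_int, sum_mul_int, h1]
  simp [CharLib.inner_sub_left, CharLib.inner_add_left, inner_irr_self isIrr_one,
    inner_irr_self T.irr, inner_irr_self T.irr', inner_irr_ne T.irr isIrr_one T.ne,
    inner_irr_ne T.irr' isIrr_one T.ne', inner_irr_ne isIrr_one T.irr T.ne.symm,
    inner_irr_ne isIrr_one T.irr' T.ne'.symm, inner_irr_ne T.irr T.irr' h2,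
    inner_irr_ne T.irr' T.irr h2.symm]

theorem Th.not_three (T : Th B c c') (D : Dat m B R r) : ¬ 3 ∣ c 1 * (c 1 + 1) := by
  classical
  have hc : IsClassFunction G (th B) := fun g x => by rw [th, th, D.B_conj]
  obtain ⟨h1, h2, h3⟩ := T.sums D
  have e1 := pair hc isIrr_one
  have e2 := pair hc T.irr
  have e3 := pair hc T.irr'
  rw [h1] at e1
  rw [h2] at e2
  rw [h3] at e3
  set X := Finset.univ.filter fun p : G × G => ¬ B p.1 ∧ ¬ B p.2 ∧ ¬ B (p.1 * p.2) with hX
  have e4 : ∑ x, ∑ y, th B x * th B y * th B (x * y) = 27 * X.card := by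
    rw [hX, Finset.card_filter, ← Fintype.sum_prod_type']
    push_cast
    rw [Finset.mul_sum]
    refine Finset.sum_congr rfl fun p _ => ?_
    by_cases f1 : B p.1 <;> by_cases f2 : B p.2 <;> by_cases f3 : B (p.1 * p.2) <;>
      simp [th, f1, f2, f3]
    norm_num
  have e5 : ∑ x, ∑ y, th B x * th B y * th B (x * y) = ∑ x, ∑ y, th B x * th B y * 1 +
      ∑ x, ∑ y, th B x * th B y * c (x * y) - ∑ x, ∑ y, th B x * th B y * c' (x * y) := by
    simp only [← Finset.sum_add_distrib, ← Finset.sum_sub_distrib]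
    refine Finset.sum_congr rfl fun x _ => Finset.sum_congr rfl fun y _ => ?_
    rw [T.eq (x * y)]; ring
  have e6 : (X.card * (c 1 * (c 1 + 1)) : ℤ) = 3 * m ^ 2 * (c 1 * (c 1 + 1) + 1) := by
    have f1 := isIrr_one_ne_zero T.irr
    have f2 := isIrr_one_ne_zero T.irr'
    rw [e4, e1, e2, e3, D.card, T.deg D] at e5
    simp only [T.deg D] at f1 f2
    push_cast at e5 f2
    field_simp at e5
    have : (X.card * (c 1 * (c 1 + 1)) : ℂ) = 3 * m ^ 2 * (c 1 * (c 1 + 1) + 1) := by
      linear_combination e5 / 27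
    exact_mod_cast this
  obtain ⟨k, hk, hk'⟩ := D.exists_notMem
  obtain ⟨L, hL, -⟩ := D.exists_L (D.pow_nine hk) fun e => hk' ((D.B_iff hk).mp e)
  have e7 := card_modEq_smul (g := MulAut.conj k) (by rw [← map_pow, D.pow_nine hk, map_one]) X
    fun p hp => by
      simpa only [hX, Finset.mem_filter, Prod.smul_fst, Prod.smul_snd, MulAut.smul_def,
        MulAut.conj_apply, conj_mul, D.B_conj, Finset.mem_univ] using hp
  have hr : r ∈ L := (hL r).mpr ⟨mem_centralizer_singleton_iff.mpr (D.comm D.mem hk),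
    (D.B_iff D.mem).mpr (mem_zpowers r)⟩
  have hB : ∀ x, k * x * k⁻¹ = x → B (r * x) → B x := fun x f1 f2 => by
    have f3 := mem_centralizer_singleton_iff.mpr (mul_inv_eq_iff_eq_mul.mp f1).symm
    exact ((hL x).mp ((L.mul_mem_cancel_left hr).mp
      ((hL _).mpr ⟨mul_mem ((hL r).mp hr).1 f3, f2⟩))).2
  have e8 := card_modEq_smul (g := ((r, 1) : G × G)) (by simp [D.pow_nine D.mem])
    (X.filter fun a => MulAut.conj k • a = a) fun p hp => by
      simp only [hX, Finset.mem_filter, Prod.smul_fst, Prod.smul_snd, MulAut.smul_def,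
        MulAut.conj_apply, Prod.ext_iff, smul_eq_mul, Prod.fst_mul, Prod.snd_mul, one_mul,
        Finset.mem_univ, true_and, mul_assoc r] at hp ⊢
      refine ⟨⟨fun f => hp.1.1 (hB _ hp.2.1 f), hp.1.2.1, fun f => hp.1.2.2 (hB _ ?_ f)⟩, ?_, hp.2.2⟩
      · rw [← conj_mul, hp.2.1, hp.2.2]
      · rw [← conj_mul, hp.2.1, (D.comm hk D.mem).eq, mul_inv_cancel_right]
  have e9 : r ≠ 1 := fun e => by simpa [e] using D.ord
  rw [Finset.filter_eq_empty_iff (p := fun a => ((r, 1) : G × G) • a = a).mpr (by simp [e9]),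
    Finset.card_empty] at e8
  obtain ⟨n, hn⟩ := (Nat.modEq_zero_iff_dvd.mp (e7.trans e8))
  rintro ⟨w, hw⟩
  rw [hw, hn] at e6
  have : (3 : ℤ) ∣ m ^ 2 * (3 * w + 1) := ⟨n * w, by push_cast at e6; linarith⟩
  rcases Int.prime_three.dvd_or_dvd this with f | f
  · exact D.cop (by exact_mod_cast Int.prime_three.dvd_of_dvd_pow f)
  · omega

theorem Th.ne_four [IsSimpleGroup G] (hG : ¬ IsMulCommutative G) (T : Th B c c')
    (D : Dat m B R r) : c 1 ≠ 4 := by
  classical
  intro h4
  obtain ⟨n, hn⟩ := avg_one R (isChar_of_irr T.irr)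
  obtain ⟨n', hn'⟩ := avg_one R (isChar_of_irr T.irr')
  have h9 := card_syl D.card D.cop R
  simp only [avg, one_mul] at hn hn'
  rw [inv_mul_eq_iff_eq_mul₀ (card_cast_ne _), h9] at hn hn'
  have h1 : ∑ u, (if u ∈ (R : Subgroup G) then (3 : ℂ) else 0) - ∑ u, (if u ∈ zpowers r then 3 else 0) =
      ∑ u, (if u ∈ (R : Subgroup G) then 1 else 0) + ∑ u, (if u ∈ (R : Subgroup G) then (c u : ℂ) else 0)
       - ∑ u, (if u ∈ (R : Subgroup G) then (c' u : ℂ) else 0) := by
    simp only [← Finset.sum_add_distrib, ← Finset.sum_sub_distrib]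
    refine Finset.sum_congr rfl fun u _ => ?_
    by_cases e : u ∈ (R : Subgroup G)
    · simp only [e, if_true, ← T.eq, th, D.B_iff e]
      split_ifs <;> simp
    · simp [e, show u ∉ zpowers r from fun f => e (D.le f)]
  rw [hn, hn', sum_ite_mem_const, sum_ite_mem_const, sum_ite_mem_const, h9, Nat.card_zpowers,
    D.ord] at h1
  have h2 : n = n' + 1 := by
    have : (n : ℂ) = n' + 1 := by push_cast at h1; linear_combination -h1 / 9
    exact_mod_cast this
  have h3 : ∑ u ∈ Finset.univ.filter (· ∈ (R : Subgroup G)), c u = 9 * n := by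
    rw [Finset.sum_filter]
    exact_mod_cast hn
  have h5 : ∑ u ∈ Finset.univ.filter (· ∈ (R : Subgroup G)), c u ≤ 12 := by
    have e0 : (1 : G) ∈ Finset.univ.filter (· ∈ (R : Subgroup G)) := by simp
    rw [← Finset.add_sum_erase _ _ e0, h4]
    have := Finset.sum_le_card_nsmul ((Finset.univ.filter (· ∈ (R : Subgroup G))).erase 1) c 1
      fun u hu => by
        simp only [Finset.mem_erase, Finset.mem_filter] at hu
        have f1 := cong_p Nat.prime_three (isChar_of_irr T.irr) (pe_of_mem R.2 hu.2.2) rfl rfl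
        have f2 := norm_lt hG T.irr T.ne (d := 4) (by simp [h4]) hu.1
        rw [Complex.norm_intCast] at f2
        have f3 : |c u| < 4 := by exact_mod_cast f2
        rw [abs_lt] at f3
        omega
    rw [Finset.card_erase_of_mem e0, ← Fintype.card_subtype, ← Nat.card_eq_fintype_card, h9] at this
    simp only [nsmul_eq_mul, mul_one] at this
    exact (add_le_add_right this 4).trans (by norm_num)
  have h6 : ∑ u ∈ Finset.univ.filter (· ∈ (R : Subgroup G)), (c u : ZMod 2) = 0 :=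
    Finset.sum_involution (fun u _ => u⁻¹)
      (fun u _ => by rw [int_inv (isChar_of_irr T.irr), CharTwo.add_self_eq_zero])
      (fun u hu e f => e (by
        have : u = 1 := PP.eq_one (p := 3) ⟨2, by norm_num, by rw [sq]; nth_rw 1 [← f]; simp⟩
          (pe_of_mem R.2 (Finset.mem_filter.mp hu).2)
        rw [this, h4]; rfl))
      (fun u hu => by simpa using hu) (fun u _ => inv_inv u)
  rw [← Int.cast_sum, h3, show n = 1 by omega] at h6
  exact absurd h6 (by decide)

end Cfsg.Agent.N9
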