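import Cfsg.Agent.N9.Nine

/-! The final counts. -/

namespace Cfsg.Agent.N9

open Cfsg Cfsg.Agent.CharLib Cfsg.Agent.Thom Subgroup ZMod
open scoped ComplexConjugate

variable {G : Type*} [Group G]

theorem exists_central [Finite G] {o a : ℕ} (h : Nat.card G = o * 2 ^ a) (h0 : 0 < o)
    (h2 : 2 ∣ Nat.card G) : ∃ t : G, t ≠ 1 ∧ t * t = 1 ∧
      Odd (centralizer ({t} : Set G)).index ∧ (centralizer ({t} : Set G)).index ≤ o := by
  obtain ⟨S⟩ : Nonempty (Sylow 2 G) := inferInstance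
  have : Nontrivial S := Finite.one_lt_card_iff_nontrivial.mp
    (Nat.le_of_dvd Nat.card_pos (S.dvd_card_of_dvd_card h2))
  have := S.2.center_nontrivial
  obtain ⟨t, ht⟩ := exists_prime_orderOf_dvd_card' (G := center S) 2
    ((S.2.to_subgroup _).card_eq_or_dvd.resolve_left Finite.one_lt_card.ne')
  have h1 : orderOf ((t : S) : G) = 2 := by rwa [orderOf_coe, orderOf_coe]
  have h3 : Odd (centralizer ({((t : S) : G)} : Set G)).index := Nat.odd_iff.mpr
    (Nat.two_dvd_ne_zero.mp fun e => S.not_dvd_index (e.trans (index_dvd_of_le fun x hx =>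
      mem_centralizer_singleton_iff.mpr (congrArg Subtype.val (t.2.comm ⟨x, hx⟩).symm))))
  refine ⟨_, fun e => by simp [e] at h1, by rw [← sq]; exact orderOf_dvd_iff_pow_eq_one.mp h1.dvd, h3,
    Nat.le_of_dvd h0 (Nat.Coprime.dvd_of_dvd_mul_right
      ((Nat.coprime_two_right.mpr h3).pow_right a) (h ▸ index_dvd_card _))⟩

theorem exists_three {h : G} (h1 : h ≠ 1) (h9 : h ^ 9 = 1) :
    ∃ k, orderOf k = 3 ∧ centralizer ({h} : Set G) ≤ centralizer {k} := by
  by_cases e : h ^ 3 = 1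
  · exact ⟨h, orderOf_eq_prime e h1, le_rfl⟩
  · exact ⟨h ^ 3, orderOf_eq_prime (by rwa [← pow_mul]) e, fun x hx =>
      mem_centralizer_singleton_iff.mpr
        (Commute.pow_right (mem_centralizer_singleton_iff.mp hx) 3)⟩

theorem not_dvd_cent [Finite G] {q : ℕ} [hq : Fact q.Prime] (hq3 : q ≠ 3)
    (hC : ∀ y : G, orderOf y = q → centralizer {y} = zpowers y) {k : G} (hk : orderOf k = 3) :
    ¬ q ∣ Nat.card (centralizer ({k} : Set G)) := fun e => by
  obtain ⟨y, hy⟩ := exists_prime_orderOf_dvd_card' q e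
  rw [← orderOf_coe] at hy
  have : k ∈ zpowers (y : G) := hC _ hy ▸ mem_centralizer_singleton_iff.mpr
    (mem_centralizer_singleton_iff.mp y.2).symm
  have := orderOf_dvd_of_mem_zpowers this
  rw [hk, hy] at this
  exact hq3 ((Nat.prime_dvd_prime_iff_eq Nat.prime_three hq.out).mp this).symm

theorem isConj_ord {x y : G} (h : IsConj x y) : orderOf y = orderOf x := by
  obtain ⟨c, rfl⟩ := isConj_iff.mp h
  exact (MulAut.conj c).orderOf_eq x

variable [Fintype G]

theorem np_isConj (t : G) {x y : G} (h : IsConj x y) : np t y = np t x := by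
  obtain ⟨c, rfl⟩ := isConj_iff.mp h
  exact np_conj t x c

theorem bound72 [IsSimpleGroup G] (hG : ¬ IsMulCommutative G) {q a M : ℕ} [hq : Fact q.Prime]
    (hq3 : q ≠ 3) (hn : Nat.card G = q * (9 * 2 ^ a)) (hM : Nat.card G = 9 * M) (hM' : ¬ 3 ∣ M)
    (hC : ∀ y : G, orderOf y = q → centralizer {y} = zpowers y) {ψ : IrrCharacter G}
    (h0 : ψ ≠ SC3.triv G) (hψ : SC3.dg ψ = 9) (hr : ∀ u, PE 2 u → ∃ w : ℤ, ψ.1 u = w) {k : G}
    (hk : orderOf k = 3) : Nat.card (centralizer ({k} : Set G)) ≤ 72 := by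
  have hd : ψ.1 1 = (9 : ℕ) := by rw [SC3.dg_eq, hψ]
  have hle : centralizer ({k} : Set G) ≤ normalizer (zpowers k : Set G) := by
    rw [zpowers_eq_closure, ← centralizer_closure]; exact centralizer_le_normalizer _
  obtain ⟨U⟩ : Nonempty (Sylow 2 (centralizer ({k} : Set G))) := inferInstance
  have h1 := isChar_comp (inclusion hle) (isChar_avg (zpowers k) (isChar_of_irr ψ.2))
  have h2 := card_dvd_of_const (U : Subgroup _) (isChar_mul h1 h1) (d := 9) (c := 1) (by
    simp only [Pi.mul_apply, map_one, OneMemClass.coe_one,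
      avg_third hM hM' hψ hk PP.one (Commute.one_left k), hd]
    norm_num) fun u hu hu1 => by
      have e1 : PE 2 (u : G) := (pe_of_mem U.2 hu).map (centralizer ({k} : Set G)).subtype
      have e2 := avg_third hM hM' hψ hk (pp_of_pe (by norm_num) e1)
        (mem_centralizer_singleton_iff.mp u.2)
      obtain ⟨w, hw⟩ := hr u e1
      obtain ⟨v, hv⟩ := int_of_rat (isIntegral_avg (zpowers k) (isChar_of_irr ψ.2) (hle u.2))
        (r := w / 3) (by rw [e2, hw]; push_cast; rfl)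
      have e3 : w = 3 * v := by
        have : (w : ℂ) = 3 * v := by rw [← hv, e2, hw]; ring
        exact_mod_cast this
      have e4 := cong_p Nat.prime_two (isChar_of_irr ψ.2) e1 hw (d := 9) hd
      have e5 := norm_lt hG ψ.2 (ne_triv h0) hd (g := u) fun e => hu1 (Subtype.ext e)
      rw [hw, Complex.norm_intCast] at e5
      have e6 : |w| < 9 := by exact_mod_cast e5
      rw [abs_lt] at e6
      simp only [Pi.mul_apply, coe_inclusion, hv]
      obtain rfl | rfl : v = 1 ∨ v = -1 := by omega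
      all_goals simp
  have h3 : (U : Subgroup (centralizer ({k} : Set G))).index ∣ 9 := by
    have e := (index_dvd_card (U : Subgroup (centralizer ({k} : Set G))))
    refine Nat.Coprime.dvd_of_dvd_mul_right ((Nat.prime_two.coprime_iff_not_dvd.mpr
      U.not_dvd_index).symm.pow_right a) (Nat.Coprime.dvd_of_dvd_mul_left
        (hq.out.coprime_iff_not_dvd.mpr fun f => not_dvd_cent hq3 hC hk (f.trans e)).symm ?_)
    exact hn ▸ e.trans (card_subgroup_dvd_card _)
  rw [← (U : Subgroup (centralizer ({k} : Set G))).card_mul_index]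
  exact Nat.mul_le_mul (Nat.le_of_dvd (by norm_num) (show _ ∣ 8 from Int.natCast_dvd_natCast.mp h2))
    (Nat.le_of_dvd (by norm_num) h3)

theorem count17 [IsSimpleGroup G] (hG : ¬ IsMulCommutative G) {M a : ℕ} {B : G → Prop}
    {R : Sylow 3 G} {r : G} {c c' : G → ℤ} (D : Dat M B R r) (T : Th B c c') (h16 : c 1 = 16)
    (hn : Nat.card G = 153 * 2 ^ a)
    (h72 : ∀ k : G, orderOf k = 3 → Nat.card (centralizer ({k} : Set G)) ≤ 72) : a ≤ 10 := by
  classical
  have hd : (c 1 : ℂ) = (16 : ℕ) := by rw [h16]; rfl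
  obtain ⟨t, h1, h2, h3, h4⟩ := exists_central hn (by norm_num)
    ((by norm_num : 2 ∣ 16).trans (deg_dvd T.irr hd))
  have h5 : (c t : ℂ) = 0 := van hG T.irr T.ne hd h1
    ((Nat.coprime_two_right.mpr h3).pow_right 4)
  have h6 : (c' t : ℂ) = 1 := by
    have := T.eq t
    rw [th, if_pos (D.B_pp ⟨2, by norm_num, by rwa [sq]⟩), h5] at this
    linear_combination this
  have h7 : 51 * ∑ g, (if B g then 0 else np t g) = 16 * (centralizer ({t} : Set G)).index ^ 2 := by
    have e1 := sum_np t isIrr_one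
    have e2 := sum_np t T.irr
    have e3 := sum_np t T.irr'
    have e4 : ∑ g, (if B g then (0 : ℂ) else np t g) * 3 = ∑ g, (np t g : ℂ) * 1 +
        ∑ g, (np t g : ℂ) * c g - ∑ g, (np t g : ℂ) * c' g := by
      rw [← Finset.sum_add_distrib, ← Finset.sum_sub_distrib]
      refine Finset.sum_congr rfl fun g _ => ?_
      rw [← mul_add, ← mul_sub, ← T.eq, th]
      split_ifs <;> simp
    rw [e1, e2, e3, h5, h6, T.deg D, h16, ← Finset.sum_mul] at e4
    apply Nat.cast_injective (R := ℂ)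
    push_cast at e4 ⊢
    linear_combination 17 * e4
  obtain ⟨g, -, hg⟩ := Finset.exists_ne_zero_of_sum_ne_zero
    (s := Finset.univ) (f := fun g => if B g then 0 else np t g) fun e => by
      rw [e] at h7
      have := pow_ne_zero 2 (index_ne_zero_of_finite (H := centralizer ({t} : Set G)))
      omega
  have hB : ¬ B g := fun e => by simp [e] at hg
  obtain ⟨t', e1, e2, e3⟩ := exists_of_np h2 (g := g) (by simpa [hB] using hg)
  obtain ⟨h, ⟨i, rfl⟩, u, ⟨j, rfl⟩, f1, f2, f3⟩ := exists_decomp (p := 3) g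
  simp only at f1 f2 f3
  have f4 : ¬ B (g ^ i) := by rwa [f3, D.B_mul_pp (Commute.zpow_zpow_self g i j) f2] at hB
  have f5 : g ^ i ≠ 1 := fun e => f4 (e ▸ D.B_one)
  have f6 : 3 ≤ np t (g ^ i) := by
    have := orderOf_dvd_of_pow_eq_one (D.pe_iff.mp f1)
    refine le_trans ?_ (le_np e1 e2 (by rw [← conj_zpow, e3, inv_zpow])
      (Odd.of_dvd_nat (by decide) this))
    have h9 : orderOf (g ^ i) ≠ 2 := fun e => by rw [e] at this; omega
    have := orderOf_eq_one_iff.not.mpr f5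
    have := orderOf_pos (g ^ i)
    omega
  have f7 : (centralizer ({g ^ i} : Set G)).index * 3 ≤ ∑ g, (if B g then 0 else np t g) := by
    rw [← card_cls, ← smul_eq_mul]
    refine (Finset.card_nsmul_le_sum _ _ _ fun x hx => ?_).trans
      (Finset.sum_le_sum_of_subset (Finset.subset_univ _))
    obtain ⟨y, rfl⟩ := isConj_iff.mp (mem_cls.mp hx)
    rwa [D.B_conj, if_neg f4, np_conj]
  obtain ⟨k, f8, f9⟩ := exists_three f5 (D.pe_iff.mp f1)
  have f10 := (card_le_of_le f9).trans (h72 k f8)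
  have f11 := (centralizer ({g ^ i} : Set G)).card_mul_index
  have f12 := Nat.pow_le_pow_left h4 2
  have f13 := Nat.mul_le_mul_right (centralizer ({g ^ i} : Set G)).index f10
  by_contra ha
  have := Nat.pow_le_pow_right two_pos (show 11 ≤ a by omega)
  omega

variable {q : ℕ} [hq : Fact q.Prime] {z : G} {e n : ℕ} {m : IrrCharacter G → ZMod q → ℤ}

theorem Mu.phi (T : Mu z e n m) (i : ZMod q) (g : G) :
    0 ≤ (∑ χ, ((m χ 0 - m χ i : ℤ) : ℂ) * χ.1 g).re ∧
    (∑ χ, ((m χ 0 - m χ i : ℤ) : ℂ) * χ.1 g ≠ 0 →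
      ∃ a : ZMod q, a ≠ 0 ∧ IsConj (z ^ a.val) g⁻¹) := by
  classical
  have h1 : ∑ χ, ((m χ 0 - m χ i : ℤ) : ℂ) * χ.1 g = ∑ a : ZMod q, (((q : ℝ)⁻¹ *
      (if IsConj (z ^ a.val) g⁻¹ then (Nat.card (centralizer ({g⁻¹} : Set G)) : ℝ) else 0) : ℝ) : ℂ) *
        (1 - stdAddChar (-(a * i))) := by
    push_cast
    simp only [← T.eq, sub_mul, Finset.sum_sub_distrib, sum_mu_mul, ← mul_sub, mul_assoc,
      ← Finset.mul_sum]
    rw [← Finset.sum_sub_distrib]
    congr 1
    refine Finset.sum_congr rfl fun a _ => ?_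
    split_ifs <;> simp [mul_sub]
  rw [h1]
  constructor
  · rw [Complex.re_sum]
    refine Finset.sum_nonneg fun a _ => ?_
    rw [Complex.re_ofReal_mul]
    refine mul_nonneg (by positivity) ?_
    have := Complex.re_le_norm (stdAddChar (-(a * i)))
    rw [AddChar.norm_apply] at this
    simpa using this
  · intro h
    obtain ⟨a, -, ha⟩ := Finset.exists_ne_zero_of_sum_ne_zero h
    exact ⟨a, fun e => by simp [e] at ha, by_contra fun e => by simp [-isConj_iff, e] at ha⟩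

theorem Mu.rat' (T : Mu z e n m) [IsSimpleGroup G] (hz : orderOf z = q) (h10 : 10 < q)
    {ψ : IrrCharacter G} (h0 : ψ ≠ SC3.triv G) (hψ : SC3.dg ψ = 9) {u : G}
    (hu : (orderOf u).Coprime q) : ∃ w : ℤ, ψ.1 u = w := by
  refine int_of_pow (isChar_of_irr ψ.2) fun j hj => ?_
  obtain ⟨l, e1, e2⟩ := Nat.chineseRemainder hu j 1
  obtain ⟨i, e3, e4⟩ := exists_cop (G := G) (n := orderOf u * q) (j := l)
    (mul_ne_zero (orderOf_pos u).ne' hq.out.ne_zero) (Nat.Coprime.mul_right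
      (e1.gcd_eq.trans hj) (e2.gcd_eq.trans (Nat.coprime_one_left q)))
  have := T.uniq hz h10 (φ := ⟨_, isIrr_pow ψ.2 e3⟩) h0 hψ (T.congr fun s => by
    change ψ.1 ((z ^ s) ^ i) = _
    rw [← pow_mul, mul_comm, pow_mul,
      pow_eq_pow_iff_modEq.mpr (hz ▸ (e4.of_mul_left _).trans e2 : i ≡ 1 [MOD orderOf z]), pow_one])
  rw [← pow_eq_pow_iff_modEq.mpr ((e4.of_mul_right _).trans e1)]
  exact congrFun (congrArg Subtype.val this) u

theorem Mu.small (T : Mu z e n m) (he : e ≤ 2) {β ψ : IrrCharacter G} (h1 : β ≠ SC3.triv G)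
    (h2 : ψ ≠ SC3.triv G) (h3 : β ≠ ψ) (h4 : m β 0 - m β 1 ≠ 0) (h5 : Odd (m ψ 0 - m ψ 1))
    {M : Type*} [CommRing M] (f : IrrCharacter G → M) :
    ∑ χ, ((m χ 0 - m χ 1 : ℤ) : M) * f χ = f (SC3.triv G) + ((m β 0 - m β 1 : ℤ) : M) * f β +
      ((m ψ 0 - m ψ 1 : ℤ) : M) * f ψ := by
  classical
  have h6 : SC3.triv G ∉ ({β, ψ} : Finset _) := by simp [h1.symm, h2.symm]
  rw [T.expand {SC3.triv G, β, ψ} ?_ one_ne_zero, Finset.sum_insert h6, Finset.sum_pair h3,
    T.triv, T.triv, if_pos rfl, if_neg one_ne_zero, add_assoc]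
  · simp
  · rw [Finset.sum_insert h6, Finset.sum_pair h3, T.triv, T.triv, if_pos rfl, if_neg one_ne_zero]
    have := sq_pos_of_ne_zero h4
    have := sq_pos_of_ne_zero (a := m ψ 0 - m ψ 1) fun e => by simp [e] at h5
    omega

theorem count7 [IsSimpleGroup G] (hG : ¬ IsMulCommutative G) {a : ℕ} (hz : orderOf z = q)
    (h7 : q = 7) (hn : Nat.card G = 63 * 2 ^ a) {β ψ : IrrCharacter G} (h1 : β ≠ SC3.triv G)
    (h2 : ψ ≠ SC3.triv G) (h8 : SC3.dg β = 8) (h9 : SC3.dg ψ = 9)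
    (h : ∀ g, 0 ≤ (1 + β.1 g - ψ.1 g).re ∧
      (1 + β.1 g - ψ.1 g ≠ 0 → ∃ a : ZMod q, a ≠ 0 ∧ IsConj (z ^ a.val) g⁻¹)) : a ≤ 3 := by
  have hd : β.1 1 = (8 : ℕ) := by rw [SC3.dg_eq, h8]
  obtain ⟨t, e1, e2, e3, e4⟩ := exists_central hn (by norm_num)
    ((by norm_num : 2 ∣ 8).trans (deg_dvd β.2 hd))
  have e5 : β.1 t = 0 := van hG β.2 (ne_triv h1) hd e1 ((Nat.coprime_two_right.mpr e3).pow_right 3)
  have e6 : ψ.1 t = 1 := by
    by_contra hc
    obtain ⟨b, f1, f2⟩ := (h t).2 fun f => hc (by linear_combination e5 - f)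
    have := orderOf_dvd_of_pow_eq_one (n := 2) (x := t) (by rwa [sq])
    rw [← orderOf_inv, isConj_ord f2, ord_pow_val hz f1, h7] at this
    omega
  have e7 : ∑ g, (np t g : ℂ) * (1 + β.1 g - ψ.1 g) =
      ((8 / 9 * (centralizer ({t} : Set G)).index ^ 2 : ℝ) : ℂ) := by
    simp only [mul_add, mul_sub, Finset.sum_add_distrib, Finset.sum_sub_distrib]
    rw [sum_np t isIrr_one, sum_np t β.2, sum_np t ψ.2, e5, e6, SC3.dg_eq ψ, h9]
    push_cast
    ring
  have e8 : ∑ g, (1 + β.1 g - ψ.1 g) = ((63 * 2 ^ a : ℝ) : ℂ) := by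
    have key : ∀ χ : IrrCharacter G, χ ≠ SC3.triv G → ∑ g, χ.1 g = 0 := fun χ hχ => by
      simpa [classInner] using inner_irr_ne χ.2 isIrr_one (ne_triv hχ)
    simp only [Finset.sum_add_distrib, Finset.sum_sub_distrib, key β h1, key ψ h2,
      Finset.sum_const, Finset.card_univ, ← Nat.card_eq_fintype_card, hn]
    simp
  obtain ⟨g0, -, hg⟩ := Finset.exists_ne_zero_of_sum_ne_zero
    (s := Finset.univ) (f := fun g => (np t g : ℂ) * (1 + β.1 g - ψ.1 g)) (by
      have := index_ne_zero_of_finite (H := centralizer ({t} : Set G))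
      rw [e7, Complex.ofReal_ne_zero]
      positivity)
  obtain ⟨t', f1, f2, f3⟩ := exists_of_np e2 (g := g0) fun f => by simp [f] at hg
  obtain ⟨a0, f4, f5⟩ := (h g0).2 (right_ne_zero_of_mul hg)
  have e9 : ∀ g, 7 * (1 + β.1 g - ψ.1 g).re ≤ ((np t g : ℂ) * (1 + β.1 g - ψ.1 g)).re := fun g => by
    rw [← Complex.ofReal_natCast, Complex.re_ofReal_mul]
    by_cases f6 : 1 + β.1 g - ψ.1 g = 0
    · simp [f6]
    refine mul_le_mul_of_nonneg_right ?_ (h g).1
    obtain ⟨b, f7, f8⟩ := (h g).2 f6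
    have f9 := f5.pow (b * a0⁻¹).val
    rw [← pow_val_mul hz, inv_mul_cancel_right₀ f4] at f9
    have f10 : IsConj (g0 ^ (b * a0⁻¹).val) g := by
      obtain ⟨y, hy⟩ := isConj_iff.mp (f9.symm.trans f8)
      exact isConj_iff.mpr ⟨y, inv_injective (by rw [conj_inv, ← hy, inv_pow])⟩
    have f11 : orderOf (g0 ^ (b * a0⁻¹).val) = 7 := by
      rw [← isConj_ord f10, ← orderOf_inv, isConj_ord f8, ord_pow_val hz f7, h7]
    have := le_np f1 f2 (g := g0 ^ (b * a0⁻¹).val) (by rw [← conj_pow, f3, inv_pow])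
      (by rw [f11]; decide)
    rw [f11, ← np_isConj t f10] at this
    exact_mod_cast this
  have e10 := Finset.sum_le_sum fun g (_ : g ∈ Finset.univ) => e9 g
  rw [← Finset.mul_sum, ← Complex.re_sum, ← Complex.re_sum, e7, e8, Complex.ofReal_re,
    Complex.ofReal_re] at e10
  have e11 : ((centralizer ({t} : Set G)).index : ℝ) ^ 2 ≤ 63 ^ 2 := by
    exact_mod_cast Nat.pow_le_pow_left e4 2
  by_contra ha
  have : (2 : ℝ) ^ 4 ≤ 2 ^ a := pow_le_pow_right₀ one_le_two (by omega)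
  linarith

theorem final7 {M : ℕ} {B : G → Prop} {R : Sylow 3 G} {r : G} (D : Dat M B R r)
    (hz : orderOf z = q) (h7 : q = 7) (hn : Nat.card G = 504)
    (hC : ∀ y : G, orderOf y = q → centralizer {y} = zpowers y) {β ψ : IrrCharacter G}
    (h8 : SC3.dg β = 8) (h9 : SC3.dg ψ = 9)
    (h : ∀ g, 1 + β.1 g - ψ.1 g ≠ 0 → ∃ a : ZMod q, a ≠ 0 ∧ IsConj (z ^ a.val) g⁻¹) :
    ∀ k ∈ (R : Subgroup G), k ≠ 1 → centralizer ({k} : Set G) = R := by
  intro k hk hk1
  obtain ⟨k', e1, e2⟩ := exists_three hk1 (D.pow_nine hk)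
  refine (eq_of_le_of_card_ge (fun x hx => mem_centralizer_singleton_iff.mpr (D.comm hx hk))
    ((card_le_of_le e2).trans ?_)).symm
  have e3 := not_dvd_cent (by omega) hC e1
  have e4 : ¬ 2 ∣ Nat.card (centralizer ({k'} : Set G)) := fun e => by
    obtain ⟨u, hu⟩ := exists_prime_orderOf_dvd_card' 2 e
    rw [← orderOf_coe] at hu
    have f1 : β.1 u = 0 := eq_zero_of_defZero Nat.prime_two β.2
      ⟨1, 63, by norm_num, by rw [SC3.dg_eq, h8, hn]; norm_num⟩ hu.symm.dvd
    have f2 : ψ.1 u = 1 := by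
      by_contra hc
      obtain ⟨b, f2, f3⟩ := h u fun f => hc (by linear_combination f1 - f)
      rw [← orderOf_inv, isConj_ord f3, ord_pow_val hz f2, h7] at hu
      omega
    have f3 := avg_third D.card D.cop h9 e1 (u := u) ⟨2, by norm_num, hu ▸ pow_orderOf_eq_one _⟩
      (mem_centralizer_singleton_iff.mp u.2)
    obtain ⟨v, hv⟩ := int_of_rat (isIntegral_avg (zpowers k') (isChar_of_irr ψ.2) (x := u) (by
      rw [zpowers_eq_closure]
      exact centralizer_le_normalizer _ (by rw [centralizer_closure]; exact u.2)))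
        (r := 1 / 3) (by rw [f3, f2]; push_cast; rfl)
    have : (1 : ℂ) = 3 * v := by rw [← hv, f3, f2]; ring
    have : (1 : ℤ) = 3 * v := by exact_mod_cast this
    omega
  rw [card_syl D.card D.cop R]
  refine Nat.le_of_dvd (by norm_num) (Nat.Coprime.dvd_of_dvd_mul_right
    ((Nat.prime_two.coprime_iff_not_dvd.mpr e4).symm.pow_right 3) (Nat.Coprime.dvd_of_dvd_mul_left
      (hq.out.coprime_iff_not_dvd.mpr e3).symm ?_))
  rw [h7]
  exact (card_subgroup_dvd_card _).trans hn.dvd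

end Cfsg.Agent.N9
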