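import Cfsg.Agent.CharLib.ClassFun
import Cfsg.Agent.CharLib.Central

/-! Galois conjugation of characters, Burnside's vanishing lemma, rationality. -/

namespace Cfsg.Agent.N9

open Cfsg Cfsg.Agent.CharLib Polynomial

variable {G : Type*} [Group G] [Finite G]

/-- eigenvalues of a group element -/
theorem exists_exps {χ : G → ℂ} (hχ : IsCharacter G χ) {g : G} {n : ℕ} (hn : 0 < n)
    (hg : g ^ n = 1) {ζ : ℂ} (hζ : IsPrimitiveRoot ζ n) :
    ∃ s : Multiset ℕ, ∀ m : ℕ, χ (g ^ m) = (s.map fun a => ζ ^ (a * m)).sum := by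
  have hcomm : ∀ a b : Subgroup.zpowers g, a * b = b * a := by
    rintro ⟨_, m, rfl⟩ ⟨_, n, rfl⟩
    exact Subtype.ext (zpow_mul_comm g m n)
  let x : Subgroup.zpowers g := ⟨g, Subgroup.mem_zpowers g⟩
  have key : ∀ ψ : Subgroup.zpowers g → ℂ, IsCharacter _ ψ →
      ∃ s : Multiset ℕ, ∀ m : ℕ, ψ (x ^ m) = (s.map fun a => ζ ^ (a * m)).sum := by
    intro ψ hψ
    refine isChar_induction (P := fun ψ => ∃ s : Multiset ℕ, ∀ m : ℕ,
      ψ (x ^ m) = (s.map fun a => ζ ^ (a * m)).sum) ?_ ?_ ?_ hψ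
    · exact ⟨0, fun m => by simp⟩
    · intro φ hφ
      have h1 := isIrr_degree_of_comm hcomm hφ
      let L : Subgroup.zpowers g →* ℂ :=
        { toFun := φ, map_one' := h1, map_mul' := isChar_mul_of_degree_one (isChar_of_irr hφ) h1 }
      have hpow : φ x ^ n = 1 := by
        have := L.map_pow x n
        rw [show x ^ n = 1 from Subtype.ext hg, map_one] at this
        exact this.symm
      have : NeZero n := ⟨hn.ne'⟩
      obtain ⟨a, -, ha⟩ := hζ.eq_pow_of_pow_eq_one hpow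
      refine ⟨{a}, fun m => ?_⟩
      have := L.map_pow x m
      simp only [Multiset.map_singleton, Multiset.sum_singleton, pow_mul, ha]
      exact this
    · rintro a b _ _ ⟨s, hs⟩ ⟨t, ht⟩
      exact ⟨s + t, fun m => by simp [hs, ht]⟩
  exact key _ (isChar_comp (Subgroup.zpowers g).subtype hχ)

theorem exists_spec_aux {L : Type*} [Field L] [Algebra ℚ L] [Module.Finite ℚ L] {n j : ℕ}
    (hn : 0 < n) {ζ : ℂ} (hζ : IsPrimitiveRoot ζ n) (hj : j.Coprime n) {x : L}
    (h2 : aeval x (cyclotomic n ℚ) = 0) : ∃ φ : L →ₐ[ℚ] ℂ, φ x = ζ ^ j := by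
  have h3 : cyclotomic n ℚ = minpoly ℚ x :=
    minpoly.eq_of_irreducible_of_monic (cyclotomic.irreducible_rat hn) h2 (cyclotomic.monic n ℚ)
  have h4 : ζ ^ j ∈ (minpoly ℚ x).rootSet ℂ := by
    rw [← h3, mem_rootSet_of_ne (cyclotomic_ne_zero n ℚ),
      cyclotomic_eq_minpoly_rat (hζ.pow_of_coprime j hj) hn, minpoly.aeval]
  rwa [← (Algebra.IsAlgebraic.of_finite ℚ L).range_eval_eq_rootSet_minpoly ℂ x] at h4

theorem exists_spec {S : Set ℂ} (hS : S.Finite) {n j : ℕ} (hn : 0 < n) {ζ : ℂ}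
    (hζ : IsPrimitiveRoot ζ n) (hζS : ζ ∈ Algebra.adjoin ℚ S) (hj : j.Coprime n) :
    ∃ ψ : Algebra.adjoin ℚ S →+* ℂ, ψ ⟨ζ, hζS⟩ = ζ ^ j := by
  have : Algebra.FiniteType ℚ (Algebra.adjoin ℚ S) :=
    (Subalgebra.fg_iff_finiteType _).mp ⟨hS.toFinset, by simp⟩
  obtain ⟨m, hm⟩ := Ideal.exists_maximal (Algebra.adjoin ℚ S)
  let _i : Field (Algebra.adjoin ℚ S ⧸ m) := Ideal.Quotient.field m
  have : Module.Finite ℚ (Algebra.adjoin ℚ S ⧸ m) := finite_of_finite_type_of_isJacobsonRing _ _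
  have h1 : aeval (⟨ζ, hζS⟩ : Algebra.adjoin ℚ S) (cyclotomic n ℚ) = 0 := by
    apply Subtype.ext
    rw [← Subalgebra.aeval_coe]
    change aeval ζ (cyclotomic n ℚ) = 0
    rw [cyclotomic_eq_minpoly_rat hζ hn, minpoly.aeval]
  have h2 := aeval_algHom_apply (Ideal.Quotient.mkₐ ℚ m) (⟨ζ, hζS⟩ : Algebra.adjoin ℚ S)
      (cyclotomic n ℚ)
  rw [h1, map_zero] at h2
  obtain ⟨φ, hφ⟩ := exists_spec_aux hn hζ hj h2
  exact ⟨φ.toRingHom.comp (Ideal.Quotient.mk m), hφ⟩

/-- Galois conjugate of a character -/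
theorem isChar_pow {χ : G → ℂ} (hχ : IsCharacter G χ) {j : ℕ} (hj : j.Coprime (Nat.card G)) :
    IsCharacter G (fun g => χ (g ^ j)) := by
  have hn : 0 < Nat.card G := Nat.card_pos
  have hζ := Complex.isPrimitiveRoot_exp _ hn.ne'
  generalize Complex.exp _ = ζ at hζ
  obtain ⟨d, ρ, hρ⟩ := id hχ
  let S : Set ℂ := insert ζ (Set.range fun x : G × Fin d × Fin d =>
    LinearMap.toMatrix' (ρ x.1) x.2.1 x.2.2)
  have hζS : ζ ∈ Algebra.adjoin ℚ S := Algebra.subset_adjoin (Set.mem_insert _ _)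
  obtain ⟨ψ, hψ⟩ := exists_spec ((Set.finite_range _).insert ζ) hn hζ hζS hj
  let M : G → Matrix (Fin d) (Fin d) (Algebra.adjoin ℚ S) := fun g a b =>
    ⟨LinearMap.toMatrix' (ρ g) a b, Algebra.subset_adjoin (Set.mem_insert_of_mem _ ⟨(g, a, b), rfl⟩)⟩
  have hM : ∀ g, (M g).map (Algebra.adjoin ℚ S).val = LinearMap.toMatrix' (ρ g) := fun g => rfl
  have hinj : Function.Injective fun X : Matrix (Fin d) (Fin d) (Algebra.adjoin ℚ S) =>
      X.map (Algebra.adjoin ℚ S).val := Matrix.map_injective Subtype.val_injective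
  let M' : G →* Matrix (Fin d) (Fin d) (Algebra.adjoin ℚ S) :=
    { toFun := M
      map_one' := hinj (by
        simp only [hM, map_one]
        rw [Matrix.map_one _ (map_zero _) (map_one _)]
        exact LinearMap.toMatrix'_id)
      map_mul' := fun g h => hinj (by
        simp only [Matrix.map_mul, hM, map_mul, LinearMap.toMatrix'_mul]) }
  let σ : Representation ℂ G (Fin d → ℂ) :=
    ((Matrix.toLinAlgEquiv' (R := ℂ) (n := Fin d)).toMulEquiv.toMonoidHom.comp
      ψ.mapMatrix.toMonoidHom).comp M'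
  refine ⟨d, σ, funext fun g => ?_⟩
  obtain ⟨s, hs⟩ := exists_exps hχ hn (pow_card_eq_one' (x := g)) hζ
  have h1 : (M g).trace = (s.map fun a => (⟨ζ, hζS⟩ : Algebra.adjoin ℚ S) ^ a).sum := by
    apply Subtype.ext
    have h2 : ((M g).trace : ℂ) = χ g := by
      rw [← hρ]
      change (Algebra.adjoin ℚ S).val (M g).trace = LinearMap.trace ℂ _ (ρ g)
      rw [AddMonoidHom.map_trace, hM, ← Matrix.trace_toLin'_eq, Matrix.toLin'_toMatrix']
    have h3 := hs 1
    simp only [pow_one, mul_one] at h3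
    rw [h2, h3]
    change _ = (Algebra.adjoin ℚ S).val _
    rw [map_multiset_sum, Multiset.map_map]
    rfl
  change LinearMap.trace ℂ _ (Matrix.toLin' ((M g).map ψ)) = _
  rw [Matrix.trace_toLin'_eq, ← AddMonoidHom.map_trace, h1, map_multiset_sum, Multiset.map_map, hs]
  congr 1
  refine Multiset.map_congr rfl fun a _ => ?_
  simp only [Function.comp, map_pow, hψ]
  rw [← pow_mul, mul_comm]

theorem isIrr_pow {χ : G → ℂ} (hχ : IsIrrCharacter G χ) {j : ℕ} (hj : j.Coprime (Nat.card G)) :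
    IsIrrCharacter G (fun g => χ (g ^ j)) := by
  have := Fintype.ofFinite G
  refine isIrr_of_isChar_of_norm_one (isChar_pow (isChar_of_irr hχ) hj) ?_
  rw [← inner_irr_self hχ]
  exact inner_comp_equiv (powCoprime hj.symm) χ χ

theorem exists_field {χ : G → ℂ} (hχ : IsCharacter G χ) (g : G) :
    ∃ (K : IntermediateField ℚ ℂ) (_ : FiniteDimensional ℚ K) (x : K), (x : ℂ) = χ g ∧
      ∀ φ : K →+* ℂ, ∃ j : ℕ, j.Coprime (orderOf g) ∧ φ x = χ (g ^ j) := by
  have hn : 0 < orderOf g := orderOf_pos g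
  have hζ := Complex.isPrimitiveRoot_exp _ hn.ne'
  generalize Complex.exp _ = ζ at hζ
  obtain ⟨s, hs⟩ := exists_exps hχ hn (pow_orderOf_eq_one g) hζ
  let K := IntermediateField.adjoin ℚ {ζ}
  let z : K := ⟨ζ, IntermediateField.mem_adjoin_simple_self ℚ ζ⟩
  have hz : IsPrimitiveRoot z (orderOf g) := IsPrimitiveRoot.of_map_of_injective (f := K.val) hζ
    K.val.injective
  refine ⟨K, IntermediateField.adjoin.finiteDimensional ((hζ.isIntegral hn).tower_top),
    (s.map fun a => z ^ a).sum, ?_, fun φ => ?_⟩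
  · have h3 := hs 1
    simp only [pow_one, mul_one] at h3
    rw [h3]
    change K.val _ = _
    rw [map_multiset_sum, Multiset.map_map]
    rfl
  · have h1 := hz.map_of_injective φ.injective
    have : NeZero (orderOf g) := ⟨hn.ne'⟩
    obtain ⟨j, -, hj, h2⟩ := (hζ.isPrimitiveRoot_iff).mp h1
    refine ⟨j, hj, ?_⟩
    rw [map_multiset_sum, Multiset.map_map, hs]
    congr 1
    refine Multiset.map_congr rfl fun a _ => ?_
    simp only [Function.comp, map_pow, ← h2]
    rw [← pow_mul, mul_comm]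

theorem int_of_rat {z : ℂ} (hz : IsIntegral ℤ z) {r : ℚ} (h : z = r) : ∃ w : ℤ, z = w := by
  have h3 : IsIntegral ℤ r :=
    (isIntegral_algebraMap_iff (algebraMap ℚ ℂ).injective).1 (by simpa [h] using hz)
  obtain ⟨w, hw⟩ := IsIntegrallyClosed.isIntegral_iff.1 h3
  exact ⟨w, by rw [h, ← hw]; simp⟩

/-- rationality -/
theorem int_of_pow {χ : G → ℂ} (hχ : IsCharacter G χ) {g : G}
    (h : ∀ j : ℕ, j.Coprime (orderOf g) → χ (g ^ j) = χ g) : ∃ w : ℤ, χ g = w := by
  obtain ⟨K, _, x, hx, hK⟩ := exists_field hχ g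
  have h1 := trace_eq_sum_embeddings ℂ (K := ℚ) (L := K) (x := x)
  have h2 : ∀ σ : K →ₐ[ℚ] ℂ, σ x = χ g := fun σ => by
    obtain ⟨j, hj, h3⟩ := hK σ.toRingHom
    exact h3.trans (h j hj)
  simp only [h2, Finset.sum_const, Finset.card_univ, nsmul_eq_mul] at h1
  have h3 : (Fintype.card (K →ₐ[ℚ] ℂ) : ℂ) ≠ 0 :=
    Nat.cast_ne_zero.mpr (Fintype.card_pos_iff.mpr ⟨K.val⟩).ne'
  refine int_of_rat (isChar_isIntegral hχ g)
    (r := Algebra.trace ℚ K x / Fintype.card (K →ₐ[ℚ] ℂ)) ?_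
  push_cast
  rw [eq_div_iff h3, mul_comm, ← h1]
  rfl

/-- Burnside's vanishing lemma -/
theorem burnside {χ : G → ℂ} (hχ : IsIrrCharacter G χ) {d : ℕ} (hd : χ 1 = d) {g : G}
    (h : (Subgroup.centralizer ({g} : Set G)).index.Coprime d) : χ g = 0 ∨ ‖χ g‖ = d := by
  have h0 : (d : ℂ) ≠ 0 := hd ▸ isIrr_one_ne_zero hχ
  have h1 : IsIntegral ℤ (χ g / d) := by
    obtain ⟨u, v, huv⟩ := Nat.isCoprime_iff_coprime.mpr h
    have h2 := ((isIntegral_centralChar hχ g).zsmul u).add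
      ((isChar_isIntegral (isChar_of_irr hχ) g).zsmul v)
    have h3 : (u : ℂ) * (Subgroup.centralizer ({g} : Set G)).index + v * d = 1 := by
      exact_mod_cast huv
    have h4 : χ g / d = u • centralChar χ g + v • χ g := by
      rw [centralChar, hd, zsmul_eq_mul, zsmul_eq_mul]
      field_simp
      linear_combination (-χ g) * h3
    rwa [h4]
  obtain ⟨K, _, x, hx, hK⟩ := exists_field (isChar_of_irr hχ) g
  have : NumberField K := { to_finiteDimensional := by assumption }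
  by_cases hg : χ g = 0
  · exact Or.inl hg
  right
  have h2 : x / d ≠ 0 := div_ne_zero (fun h => hg (by rw [← hx, h]; rfl)) (by exact_mod_cast h0)
  have h3 : IsIntegral ℤ (x / d) :=
    (isIntegral_algHom_iff (K.val.restrictScalars ℤ) K.val.injective).mp (by simpa [hx] using h1)
  have hdpos : (0 : ℝ) < d := by exact_mod_cast Nat.pos_of_ne_zero (by exact_mod_cast h0)
  obtain ⟨n, hn, h4⟩ := NumberField.Embeddings.pow_eq_one_of_norm_le_one K ℂ h2 h3 (by
    intro φ
    obtain ⟨j, -, hj⟩ := hK φ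
    have := isChar_norm_le (isChar_of_irr hχ) (g ^ j)
    rw [hd] at this
    rw [map_div₀, hj, map_natCast, norm_div, Complex.norm_natCast, div_le_one hdpos]
    simpa using this)
  have h5 : (χ g / d) ^ n = 1 := by
    have := congrArg K.val h4
    simpa [hx] using this
  have h6 := Complex.norm_eq_one_of_pow_eq_one h5 hn.ne'
  rwa [norm_div, Complex.norm_natCast, div_eq_one_iff_eq hdpos.ne'] at h6

end Cfsg.Agent.N9
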