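import Cfsg.Agent.Thom.Frob

/-! Local structure at the prime 3 when the Sylow subgroup has order 9. -/

namespace Cfsg.Agent.N9

open Cfsg.Agent.Thom Subgroup
open scoped Pointwise commutatorElement

variable {G : Type*} [Group G]

theorem tri_zpowers {r s : G} (hr : orderOf r = 3) :
    s ∈ zpowers r ↔ s = 1 ∨ s = r ∨ s = r⁻¹ := by
  classical
  constructor
  · intro h
    rw [(isOfFinOrder_iff_pow_eq_one.mpr ⟨3, by norm_num, hr ▸ pow_orderOf_eq_one r⟩
      ).mem_zpowers_iff_mem_range_orderOf, hr] at h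
    obtain ⟨i, hi, rfl⟩ := Finset.mem_image.mp h
    have h3 : r ^ 3 = 1 := hr ▸ pow_orderOf_eq_one r
    have : i < 3 := Finset.mem_range.mp hi
    interval_cases i
    · simp
    · simp
    · exact Or.inr (Or.inr (eq_inv_of_mul_eq_one_left (by rw [← pow_succ, h3])))
  · rintro (rfl | rfl | rfl)
    exacts [one_mem _, mem_zpowers _, inv_mem (mem_zpowers _)]

theorem tri_card {Q : Type*} [Group Q] (h : Nat.card Q = 3) {κ : Q} (hκ : κ ≠ 1) (w : Q) :
    w = 1 ∨ w = κ ∨ w = κ⁻¹ := by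
  have : Fact (Nat.Prime 3) := ⟨Nat.prime_three⟩
  exact (tri_zpowers (orderOf_eq_prime (h ▸ pow_card_eq_one') hκ)).mp
    (mem_zpowers_of_prime_card h hκ)

/-- the basic data -/
structure Dat (m : ℕ) (B : G → Prop) (R : Sylow 3 G) (r : G) : Prop where
  card : Nat.card G = 9 * m
  cop : ¬ 3 ∣ m
  mem : r ∈ (R : Subgroup G)
  ord : orderOf r = 3
  nrm : ∀ n ∈ normalizer ((R : Subgroup G) : Set G), n * r * n⁻¹ ∈ zpowers r
  hB : ∀ g, B g ↔ ∃ s ∈ zpowers r, IsConj s (g ^ m)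

instance : Fact (Nat.Prime 3) := ⟨Nat.prime_three⟩

theorem card_syl [Finite G] {m : ℕ} (h : Nat.card G = 9 * m) (hm : ¬ 3 ∣ m) (R : Sylow 3 G) :
    Nat.card R = 9 := by
  have h0 : m ≠ 0 := fun h => hm (h ▸ dvd_zero 3)
  rw [R.card_eq_multiplicity, h, Nat.factorization_mul (by norm_num) h0,
    show (9 : ℕ) = 3 ^ 2 by norm_num, Nat.prime_three.factorization_pow]
  simp [Nat.factorization_eq_zero_of_not_dvd hm]

theorem comm_syl [Finite G] {m : ℕ} (h : Nat.card G = 9 * m) (hm : ¬ 3 ∣ m) (R : Sylow 3 G) :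
    IsMulCommutative R :=
  IsPGroup.isMulCommutative_of_card_eq_prime_sq (p := 3) (card_syl h hm R)

namespace Dat

variable [Finite G] {m : ℕ} {B : G → Prop} {R : Sylow 3 G} {r : G} (D : Dat m B R r)
include D

theorem comm {x y : G} (hx : x ∈ (R : Subgroup G)) (hy : y ∈ (R : Subgroup G)) : Commute x y :=
  have := comm_syl D.card D.cop R
  congrArg Subtype.val (mul_comm' (⟨x, hx⟩ : (R : Subgroup G)) ⟨y, hy⟩)

theorem pow_nine {x : G} (hx : x ∈ (R : Subgroup G)) : x ^ 9 = 1 := by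
  rw [← card_syl D.card D.cop R]
  exact congrArg Subtype.val (pow_card_eq_one' (x := (⟨x, hx⟩ : (R : Subgroup G))))

omit [Finite G] in
theorem le : zpowers r ≤ R := zpowers_le.mpr D.mem

omit [Finite G] in
theorem nrm' {n s : G} (hn : n ∈ normalizer ((R : Subgroup G) : Set G)) (hs : s ∈ zpowers r) :
    n * s * n⁻¹ ∈ zpowers r := by
  obtain ⟨i, rfl⟩ := hs
  simp only
  rw [← conj_zpow]
  exact zpow_mem (D.nrm n hn) i

omit [Finite G] in
theorem conj (y : G) : Dat m B (y • R) (y * r * y⁻¹) where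
  card := D.card
  cop := D.cop
  mem := mem_smul_sylow.mpr (by simpa [mul_assoc] using D.mem)
  ord := by rw [← D.ord]; exact (MulAut.conj y).orderOf_eq r
  nrm := fun n hn => by
    have h1 : y⁻¹ * n * y ∈ normalizer ((R : Subgroup G) : Set G) := by
      have hn' : n • y • R = y • R := Sylow.smul_eq_iff_mem_normalizer.mpr hn
      refine Sylow.smul_eq_iff_mem_normalizer.mp ?_
      rw [mul_smul, mul_smul, hn', inv_smul_smul]
    obtain ⟨i, hi⟩ := D.nrm _ h1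
    refine ⟨i, ?_⟩
    simp only at hi ⊢
    rw [conj_zpow, hi]; group
  hB := fun g => by
    rw [D.hB]
    constructor
    · rintro ⟨_, ⟨i, rfl⟩, h⟩
      refine ⟨_, ⟨i, rfl⟩, IsConj.trans ?_ h⟩
      simp only
      rw [conj_zpow]
      exact (isConj_iff.mpr ⟨y, rfl⟩).symm
    · rintro ⟨_, ⟨i, rfl⟩, h⟩
      refine ⟨_, ⟨i, rfl⟩, IsConj.trans ?_ h⟩
      simp only
      rw [conj_zpow]
      exact isConj_iff.mpr ⟨y, rfl⟩

theorem all (P : Sylow 3 G) : ∃ r', Dat m B P r' := by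
  obtain ⟨y, rfl⟩ := MulAction.exists_smul_eq G R P
  exact ⟨_, D.conj y⟩

theorem exists_mem {h : G} (hh : PE 3 h) : ∃ P r', Dat m B P r' ∧ h ∈ (P : Subgroup G) := by
  obtain ⟨P, hP⟩ := hh.zpowers.exists_le_sylow
  obtain ⟨r', h⟩ := D.all P
  exact ⟨P, r', h, hP (mem_zpowers _)⟩

omit [Finite G] in
theorem B_conj (g y : G) : B (y * g * y⁻¹) ↔ B g := by
  rw [D.hB, D.hB, conj_pow]
  exact exists_congr fun s => and_congr_right fun _ =>
    ⟨fun h => h.trans (isConj_iff.mpr ⟨y, rfl⟩).symm, fun h => h.trans (isConj_iff.mpr ⟨y, rfl⟩)⟩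

omit [Finite G] in
theorem B_zpow {g : G} (h : B g) (i : ℤ) : B (g ^ i) := by
  rw [D.hB] at h ⊢
  obtain ⟨s, hs, h⟩ := h
  obtain ⟨c, hc⟩ := isConj_iff.mp h
  refine ⟨s ^ i, zpow_mem hs i, isConj_iff.mpr ⟨c, ?_⟩⟩
  rw [← conj_zpow, hc, ← zpow_natCast, ← zpow_natCast, ← zpow_mul, ← zpow_mul, mul_comm]

omit [Finite G] in
theorem B_inv (g : G) : B g⁻¹ ↔ B g :=
  ⟨fun h => by simpa using D.B_zpow h (-1), fun h => by simpa using D.B_zpow h (-1)⟩

omit [Finite G] in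
theorem B_one : B 1 := (D.hB 1).mpr ⟨1, one_mem _, by simp⟩

omit [Finite G] in
theorem pow_pp {u : G} (hu : PP 3 u) : u ^ m = 1 := by
  obtain ⟨n, h1, h2⟩ := hu
  apply orderOf_dvd_iff_pow_eq_one.mp
  have h3 : orderOf u ∣ 9 * m := D.card ▸ orderOf_dvd_natCard u
  exact (Nat.Coprime.pow_right 2 (h1.coprime_dvd_left
    (orderOf_dvd_of_pow_eq_one h2))).dvd_of_dvd_mul_left h3

omit [Finite G] in
theorem B_mul_pp {h u : G} (hc : Commute h u) (hu : PP 3 u) : B (h * u) ↔ B h := by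
  rw [D.hB, D.hB, hc.mul_pow, D.pow_pp hu, mul_one]

omit [Finite G] in
theorem B_pp {u : G} (hu : PP 3 u) : B u := by
  simpa using (D.B_mul_pp (Commute.one_left u) hu).mpr D.B_one

theorem pe_iff {h : G} : PE 3 h ↔ h ^ 9 = 1 := by
  refine ⟨fun hh => ?_, fun hh => ⟨2, hh⟩⟩
  obtain ⟨P, r', h1, h2⟩ := D.exists_mem hh
  exact h1.pow_nine h2

theorem B_iff {h : G} (hh : h ∈ (R : Subgroup G)) : B h ↔ h ∈ zpowers r := by
  have := comm_syl D.card D.cop R
  rw [D.hB]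
  constructor
  · rintro ⟨s, hs, h1⟩
    obtain ⟨c, hc⟩ := isConj_iff.mp h1
    obtain ⟨n, hn, h2⟩ := R.conj_eq_normalizer_conj_of_mem s c⁻¹ (D.le hs)
      (by rw [inv_inv, hc]; exact pow_mem hh m)
    rw [inv_inv, hc] at h2
    have h3 : h ^ m ∈ zpowers r := by
      have := D.nrm' (inv_mem hn) hs
      rwa [inv_inv, ← h2] at this
    have h4 : m.Coprime (orderOf h) := by
      refine Nat.Coprime.coprime_dvd_right (orderOf_dvd_of_pow_eq_one (D.pow_nine hh)) ?_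
      exact Nat.Coprime.pow_right 2 ((Nat.prime_three.coprime_iff_not_dvd.mpr D.cop).symm)
    obtain ⟨j, hj⟩ := exists_pow_eq_self_of_coprime h4
    rw [← hj]
    exact pow_mem h3 j
  · exact fun h1 => ⟨_, pow_mem h1 m, IsConj.refl _⟩

theorem B_pow_iff {g : G} {j : ℕ} (hj : j.Coprime 3) : B (g ^ j) ↔ B g := by
  refine ⟨fun h => ?_, fun h => by simpa using D.B_zpow h j⟩
  obtain ⟨a, ha, b, hb, h1, h2, h3⟩ := exists_decomp (p := 3) g
  have hc : Commute a b := by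
    obtain ⟨i, rfl⟩ := ha
    obtain ⟨i', rfl⟩ := hb
    exact Commute.zpow_zpow_self g i i'
  rw [h3, hc.mul_pow, D.B_mul_pp (hc.pow_pow j j) (h2.pow j)] at h
  rw [h3, D.B_mul_pp hc h2]
  have h4 : j.Coprime (orderOf a) :=
    Nat.Coprime.coprime_dvd_right (orderOf_dvd_of_pow_eq_one (D.pe_iff.mp h1))
      (Nat.Coprime.pow_right 2 hj)
  obtain ⟨i, hi⟩ := exists_pow_eq_self_of_coprime h4
  rw [← hi]
  simpa using D.B_zpow h i

theorem tri {k x : G} (hk : k ∈ (R : Subgroup G)) (hk' : k ∉ zpowers r) (hx : x ∈ (R : Subgroup G)) :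
    x ∈ zpowers r ∨ k⁻¹ * x ∈ zpowers r ∨ k * x ∈ zpowers r := by
  have := comm_syl D.card D.cop R
  let R0 := (zpowers r).subgroupOf (R : Subgroup G)
  have h1 : Nat.card ((R : Subgroup G) ⧸ R0) = 3 := by
    have h2 := card_eq_card_quotient_mul_card_subgroup R0
    rw [Nat.card_congr (subgroupOfEquivOfLe D.le).toEquiv, Nat.card_zpowers, D.ord,
      card_syl D.card D.cop R] at h2
    omega
  rcases tri_card h1 (κ := ((⟨k, hk⟩ : (R : Subgroup G)) : _ ⧸ R0))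
    (fun h => hk' (mem_subgroupOf.mp ((QuotientGroup.eq_one_iff (N := R0) ⟨k, hk⟩).mp h)))
    ((⟨x, hx⟩ : (R : Subgroup G)) : _ ⧸ R0)
    with h | h | h
  · exact Or.inl (mem_subgroupOf.mp ((QuotientGroup.eq_one_iff (N := R0) ⟨x, hx⟩).mp h))
  · exact Or.inr (Or.inl (mem_subgroupOf.mp ((QuotientGroup.eq (s := R0)).mp h.symm)))
  · refine Or.inr (Or.inr ?_)
    rw [← QuotientGroup.mk_inv] at h
    simpa using mem_subgroupOf.mp ((QuotientGroup.eq (s := R0)).mp h.symm)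

theorem induct {k : G} (hk : k ∈ (R : Subgroup G)) (hk' : k ∉ zpowers r) (W : Subgroup G)
    (h1 : r ∈ W) (h2 : k ∈ W) : (R : Subgroup G) ≤ W := by
  intro x hx
  have := zpowers_le.mpr h1
  rcases D.tri hk hk' hx with h | h | h
  · exact this h
  · simpa using W.mul_mem h2 (this h)
  · simpa using W.mul_mem (W.inv_mem h2) (this h)

theorem triv_quot {k n : G} (hk : k ∈ (R : Subgroup G)) (hk' : k ∉ zpowers r)
    (hn : n ∈ normalizer ((R : Subgroup G) : Set G)) (h : n * k * n⁻¹ * k⁻¹ ∈ zpowers r) :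
    ∀ x ∈ (R : Subgroup G), n * x * n⁻¹ * x⁻¹ ∈ zpowers r := by
  let W : Subgroup G :=
    { carrier := {x | x ∈ (R : Subgroup G) ∧ n * x * n⁻¹ * x⁻¹ ∈ zpowers r}
      one_mem' := ⟨one_mem _, by simp⟩
      mul_mem' := fun {x y} hx hy => ⟨mul_mem hx.1 hy.1, by
        have h1 := (D.comm (inv_mem hx.1) (D.le hy.2)).eq
        have := mul_mem hx.2 hy.2
        rw [mul_assoc _ x⁻¹, h1] at this
        simpa [mul_assoc] using this⟩
      inv_mem' := fun {x} hx => ⟨inv_mem hx.1, by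
        have h1 := (D.comm hx.1 ((mem_normalizer_iff.mp hn _).mp (inv_mem hx.1))).eq
        have := inv_mem hx.2
        rw [inv_inv, ← h1]
        simpa [mul_assoc] using this⟩ }
  exact fun x hx => (D.induct hk hk' W
    ⟨D.mem, mul_mem (D.nrm n hn) (inv_mem (mem_zpowers r))⟩ ⟨hk, h⟩ hx).2

/-- transfer into `R / R₀` -/
theorem transfer {k : G} (hk : k ∈ (R : Subgroup G)) (hk' : k ∉ zpowers r) (H : Subgroup G)
    (hle : (R : Subgroup G) ≤ H)
    (h : ∀ n ∈ H, n ∈ normalizer ((R : Subgroup G) : Set G) → n * k * n⁻¹ * k⁻¹ ∈ zpowers r) :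
    ∃ L : Subgroup G, (∀ c, c ∈ L ↔ c ∈ H ∧ B c) ∧
      ∀ c ∈ H, c ∈ L ∨ k⁻¹ * c ∈ L ∨ k * c ∈ L := by
  let T : Sylow 3 H := R.subtype hle
  have hT : IsMulCommutative T := ⟨⟨fun a b => Subtype.ext (Subtype.ext (D.comm a.2 b.2))⟩⟩
  let R0 : Subgroup T := (zpowers r).comap (H.subtype.comp (T : Subgroup H).subtype)
  have hfoc : (T : Subgroup H).focalSubgroupOf ≤ R0 := by
    rw [focalSubgroupOf_eq_closure, closure_le]
    rintro ⟨g, hg⟩ ⟨x, hx, u, h1⟩
    simp only at h1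
    subst h1
    have h2 : u⁻¹⁻¹ * x⁻¹ * u⁻¹ ∈ (T : Subgroup H) := by
      have := mul_mem (inv_mem hx) hg
      simpa [commutatorElement_def, mul_assoc] using this
    obtain ⟨n, hn, h3⟩ := T.conj_eq_normalizer_conj_of_mem x⁻¹ u⁻¹ (inv_mem hx) h2
    have h4 : ((n⁻¹ : H) : G) ∈ normalizer ((R : Subgroup G) : Set G) := by
      have := le_normalizer_map H.subtype ⟨_, inv_mem hn, rfl⟩
      rwa [show (T : Subgroup H).map H.subtype = R from map_subgroupOf_eq_of_le hle] at this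
    have h5 := D.triv_quot hk hk' h4 (h _ (n⁻¹).2 h4) _ (inv_mem hx : ((x⁻¹ : H) : G) ∈ _)
    have h6 := congrArg Subtype.val h3
    have h7 := (D.comm (hx : (x : G) ∈ _) (h2 : ((u⁻¹⁻¹ * x⁻¹ * u⁻¹ : H) : G) ∈ _)).eq
    change ((⁅x, u⁆ : H) : G) ∈ zpowers r
    simp only [coe_mul, coe_inv, inv_inv, commutatorElement_def] at h5 h6 h7 ⊢
    rw [← h6, ← h7] at h5
    simpa [mul_assoc] using h5
  have hq : IsPGroup 3 (T ⧸ R0) := T.2.to_quotient _
  obtain ⟨τ, hτ⟩ : ∃ τ : H →* T ⧸ R0, ∀ x : T, τ x = (x : T ⧸ R0) ^ (T : Subgroup H).index := by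
    refine ⟨(QuotientGroup.map _ R0 (MonoidHom.id _) hfoc).comp (T : Subgroup H).transferFocal,
      fun x => ?_⟩
    rw [MonoidHom.comp_apply, transferFocal_eq_pow, map_pow]
    rfl
  have hτ1 : ∀ x : T, τ x = 1 ↔ ((x : H) : G) ∈ zpowers r := fun x => by
    rw [hτ]
    exact ((hq.powEquiv' T.not_dvd_index).apply_eq_iff_eq (x := x) (y := 1)).symm.symm.trans
      (QuotientGroup.eq_one_iff x) |>.trans Iff.rfl |>.symm.trans (by simp) |>.symm
  have hcomm : ∀ a b : T ⧸ R0, a * b = b * a := by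
    intro a b
    obtain ⟨a, rfl⟩ := QuotientGroup.mk_surjective a
    obtain ⟨b, rfl⟩ := QuotientGroup.mk_surjective b
    rw [← QuotientGroup.mk_mul, ← QuotientGroup.mk_mul, mul_comm' a b]
  have key : ∀ c : H, ∃ x : T, τ c = τ x ∧ (B c ↔ B ((x : H) : G)) := by
    intro c
    obtain ⟨a, ha, b, hb, h1, h2, h3⟩ := exists_decomp (p := 3) c
    have hc : Commute a b := by
      obtain ⟨i, rfl⟩ := ha
      obtain ⟨i', rfl⟩ := hb
      exact Commute.zpow_zpow_self c i i'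
    obtain ⟨n, -, hn⟩ := (sylow_sylIn T le_top).conj_le h1.zpowers le_top
    refine ⟨⟨_, hn a (mem_zpowers a)⟩, ?_, ?_⟩
    · rw [h3, map_mul, (h2.map τ).eq_one (hq _), mul_one]
      simp only [map_mul, map_inv]
      rw [hcomm (τ n), mul_inv_cancel_right]
    · rw [h3]
      exact (D.B_mul_pp (hc.map H.subtype) (h2.map H.subtype)).trans (D.B_conj _ _).symm
  have hL : ∀ c : H, τ c = 1 ↔ B c := fun c => by
    obtain ⟨x, h1, h2⟩ := key c
    rw [h1, h2, hτ1]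
    exact (D.B_iff x.2).symm
  refine ⟨τ.ker.map H.subtype, fun c => ⟨?_, fun hc => ⟨⟨c, hc.1⟩, (hL _).mpr hc.2, rfl⟩⟩, ?_⟩
  · rintro ⟨c, hc, rfl⟩
    exact ⟨c.2, (hL c).mp hc⟩
  · intro c hc
    obtain ⟨x, h1, -⟩ := key ⟨c, hc⟩
    let k' : T := ⟨⟨k, hle hk⟩, hk⟩
    rcases D.tri hk hk' x.2 with h2 | h2 | h2
    · exact Or.inl ⟨⟨c, hc⟩, h1.trans ((hτ1 x).mpr h2), rfl⟩
    · refine Or.inr (Or.inl ⟨(k' : H)⁻¹ * ⟨c, hc⟩, ?_, rfl⟩)
      rw [SetLike.mem_coe, MonoidHom.mem_ker, map_mul, h1, ← map_mul]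
      exact (hτ1 (k'⁻¹ * x)).mpr h2
    · refine Or.inr (Or.inr ⟨(k' : H) * ⟨c, hc⟩, ?_, rfl⟩)
      rw [SetLike.mem_coe, MonoidHom.mem_ker, map_mul, h1, ← map_mul]
      exact (hτ1 (k' * x)).mpr h2

theorem exists_notMem : ∃ k ∈ (R : Subgroup G), k ∉ zpowers r := by
  by_contra hc
  push Not at hc
  have := card_le_of_le (hc : (R : Subgroup G) ≤ zpowers r)
  rw [card_syl D.card D.cop R, Nat.card_zpowers, D.ord] at this
  omega

theorem exists_inv [IsSimpleGroup G] {k : G} (hk : k ∈ (R : Subgroup G)) (hk' : k ∉ zpowers r) :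
    ∃ n ∈ normalizer ((R : Subgroup G) : Set G), k * (n * k * n⁻¹) ∈ zpowers r := by
  by_contra hc
  push Not at hc
  obtain ⟨L, h1, -⟩ := D.transfer hk hk' ⊤ le_top fun n _ hn => by
    have h2 := (mem_normalizer_iff.mp hn k).mp hk
    rcases D.tri hk hk' h2 with h | h | h
    · have := D.nrm' (inv_mem hn) h
      exact absurd (by simpa [mul_assoc] using this) hk'
    · rwa [(D.comm (inv_mem hk) h2).eq] at h
    · exact absurd h (hc n hn)
  have hL : L.Normal := ⟨fun x hx g => (h1 _).mpr ⟨trivial, (D.B_conj _ _).mpr ((h1 _).mp hx).2⟩⟩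
  rcases hL.eq_bot_or_eq_top with h | h
  · have : r ∈ L := (h1 _).mpr ⟨trivial, (D.B_iff D.mem).mpr (mem_zpowers r)⟩
    rw [h, mem_bot] at this
    have h2 := D.ord
    rw [this, orderOf_one] at h2
    omega
  · exact hk' ((D.B_iff hk).mp ((h1 k).mp (h ▸ mem_top k)).2)

theorem exists_L {k : G} (hk : k ^ 9 = 1) (hk' : ¬ B k) :
    ∃ L : Subgroup G, (∀ c, c ∈ L ↔ c ∈ centralizer ({k} : Set G) ∧ B c) ∧
      ∀ c ∈ centralizer ({k} : Set G), c ∈ L ∨ k⁻¹ * c ∈ L ∨ k * c ∈ L := by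
  obtain ⟨P, r', D', h⟩ := D.exists_mem (D.pe_iff.mpr hk)
  refine D'.transfer h (fun h' => hk' ((D'.B_iff h).mpr h')) _
    (fun x hx => mem_centralizer_singleton_iff.mpr (D'.comm hx h)) fun n hn _ => ?_
  rw [mem_centralizer_singleton_iff.mp hn]
  simp

end Dat

end Cfsg.Agent.N9
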