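import Cfsg.Agent.N9.Deg
import Cfsg.Agent.SC3.Base

/-! Multiplicities of the eigenvalues of a self-centralizing element of prime order. -/

namespace Cfsg.Agent.N9

open Cfsg Cfsg.Agent.CharLib Subgroup ZMod
open scoped ComplexConjugate

variable {G : Type*} [Group G] {q : ℕ} [hq : Fact q.Prime] {z : G}

/-- multiplicity of an eigenvalue -/
noncomputable def mu (z : G) (χ : G → ℂ) (i : ZMod q) : ℂ :=
  (q : ℂ)⁻¹ * ∑ a : ZMod q, χ (z ^ a.val) * stdAddChar (-(a * i))

theorem sum_e (b : ZMod q) : ∑ a : ZMod q, stdAddChar (a * b) = if b = 0 then (q : ℂ) else 0 := by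
  rw [AddChar.sum_mulShift b (isPrimitive_stdAddChar q), ZMod.card]
  split_ifs <;> simp

theorem q_ne : (q : ℂ) ≠ 0 := Nat.cast_ne_zero.mpr hq.out.ne_zero

theorem sum_mu (z : G) (χ : G → ℂ) (b : ZMod q) :
    ∑ i, mu z χ i * stdAddChar (i * b) = χ (z ^ b.val) := by
  simp only [mu, mul_assoc, ← Finset.mul_sum, Finset.sum_mul]
  rw [Finset.sum_comm]
  have : ∀ a i : ZMod q, stdAddChar (-(a * i)) * stdAddChar (i * b) = stdAddChar (i * (b - a)) :=
    fun a i => by rw [← AddChar.map_add_eq_mul]; congr 1; ring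
  simp only [this, ← Finset.mul_sum, sum_e, sub_eq_zero]
  simp [mul_comm (χ _), inv_mul_cancel_left₀ (q_ne (q := q))]

theorem mu_one (z : G) (i : ZMod q) : mu z (fun _ => 1) i = if i = 0 then 1 else 0 := by
  simp only [mu, one_mul, ← mul_neg, sum_e, neg_eq_zero]
  split_ifs <;> simp

theorem mu_mul {χ : G → ℂ} {h : ZMod q} (h0 : h ≠ 0)
    (h1 : ∀ a : ZMod q, χ (z ^ (a * h).val) = χ (z ^ a.val)) (i : ZMod q) :
    mu z χ (i * h) = mu z χ i := by
  simp only [mu]
  congr 1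
  refine Fintype.sum_equiv (Equiv.mulRight₀ h h0) _ _ fun a => ?_
  rw [Equiv.mulRight₀_apply, h1]
  congr 3
  ring

variable (hz : orderOf z = q)
include hz

theorem pow_val_add (a b : ZMod q) : z ^ (a + b).val = z ^ a.val * z ^ b.val := by
  rw [ZMod.val_add, ← pow_eq_pow_mod _ (hz ▸ pow_orderOf_eq_one z), pow_add]

theorem pow_val_mul (a b : ZMod q) : z ^ (a * b).val = (z ^ b.val) ^ a.val := by
  rw [ZMod.val_mul, ← pow_eq_pow_mod _ (hz ▸ pow_orderOf_eq_one z), mul_comm, pow_mul]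

theorem pow_val_inj {a b : ZMod q} (h : z ^ a.val = z ^ b.val) : a = b :=
  ZMod.val_injective q (pow_injOn_Iio_orderOf (hz ▸ a.val_lt) (hz ▸ b.val_lt) h)

theorem pow_val_ne {a : ZMod q} (h : a ≠ 0) : z ^ a.val ≠ 1 :=
  fun e => h (pow_val_inj hz (by simpa using e))

theorem ord_pow_val {a : ZMod q} (h : a ≠ 0) : orderOf (z ^ a.val) = q :=
  orderOf_eq_prime (by rw [← pow_mul, mul_comm, pow_mul, (hz ▸ pow_orderOf_eq_one z : z ^ q = 1), one_pow])
    (pow_val_ne hz h)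

theorem mu_nat [Finite G] {χ : G → ℂ} (hχ : IsCharacter G χ) (i : ZMod q) :
    ∃ n : ℕ, mu z χ i = n := by
  let W : Multiplicative (ZMod q) →* G := MonoidHom.mk' (fun a => z ^ a.toAdd.val)
    fun a b => pow_val_add hz _ _
  obtain ⟨n, hn⟩ := inner_char_nat (isChar_comp W hχ) (isChar_of_irr (isIrr_of_mul
    (l := fun a : Multiplicative (ZMod q) => stdAddChar (a.toAdd * i)) (by simp)
    fun a b => by rw [toAdd_mul, add_mul, AddChar.map_add_eq_mul]))
  refine ⟨n, hn ▸ ?_⟩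
  simp only [mu, classInner, AddChar.map_neg_eq_conj, Nat.card_eq_fintype_card,
    Fintype.card_multiplicative, ZMod.card]
  congr 1
  exact Fintype.sum_equiv Multiplicative.ofAdd _ _ fun _ => rfl

theorem isConj_mul {h : ZMod q} (e : IsConj z (z ^ h.val)) (a : ZMod q) :
    IsConj (z ^ a.val) (z ^ (a * h).val) := by
  rw [pow_val_mul hz]; exact e.pow _

open Classical in
omit hz in
theorem sum_mu_mul [Finite G] (g : G) (i : ZMod q) :
    ∑ χ : IrrCharacter G, mu z χ.1 i * χ.1 g = (q : ℂ)⁻¹ * ∑ a : ZMod q,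
      (if IsConj (z ^ a.val) g⁻¹ then (Nat.card (centralizer ({g⁻¹} : Set G)) : ℂ) else 0) *
        stdAddChar (-(a * i)) := by
  simp only [mu, mul_assoc, ← Finset.mul_sum, Finset.sum_mul, ← sum_irr_mul_conj]
  rw [Finset.sum_comm]
  congr 1
  refine Finset.sum_congr rfl fun a _ => Finset.sum_congr rfl fun χ _ => ?_
  rw [isChar_conj (isChar_of_irr χ.2), inv_inv, mul_comm (χ.1 g)]

open Classical in
theorem sum_mu_mu [Finite G] (hC : ∀ y : G, orderOf y = q → centralizer {y} = zpowers y)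
    {H : Finset (ZMod q)} (hH : ∀ h, h ∈ H ↔ IsConj z (z ^ h.val))
    (i j : ZMod q) : (q : ℂ) ^ 2 * ∑ χ : IrrCharacter G, mu z χ.1 i * mu z χ.1 j =
      Nat.card G + q * ∑ h ∈ H, ((if h * i = j then (q : ℂ) else 0) - 1) := by
  obtain rfl : H = Finset.univ.filter fun h : ZMod q => IsConj z (z ^ h.val) := by
    ext h; simp only [hH, Finset.mem_filter, Finset.mem_univ, true_and]
  have h1 : ∀ χ : IrrCharacter G, mu z χ.1 j =
      (q : ℂ)⁻¹ * ∑ b : ZMod q, χ.1 (z ^ b.val)⁻¹ * stdAddChar (b * j) := fun χ => by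
    obtain ⟨n, hn⟩ := mu_nat hz (isChar_of_irr χ.2) j
    have : conj (mu z χ.1 j) = mu z χ.1 j := by rw [hn, map_natCast]
    rw [← this]
    simp only [mu, map_mul, map_inv₀, map_natCast, map_sum, isChar_conj (isChar_of_irr χ.2),
      AddChar.map_neg_eq_conj, Complex.conj_conj]
  have h2 : ∑ χ : IrrCharacter G, mu z χ.1 i * mu z χ.1 j = (q : ℂ)⁻¹ * ∑ b : ZMod q,
      (∑ χ : IrrCharacter G, mu z χ.1 i * χ.1 (z ^ b.val)⁻¹) * stdAddChar (b * j) := by
    simp only [h1, mul_left_comm _ (q : ℂ)⁻¹, ← Finset.mul_sum, Finset.sum_mul]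
    rw [Finset.sum_comm]
    simp only [Finset.mul_sum, mul_assoc]
  have h3 : ∀ b : ZMod q, b ≠ 0 → (∑ χ : IrrCharacter G, mu z χ.1 i * χ.1 (z ^ b.val)⁻¹) *
      stdAddChar (b * j) = ∑ h ∈ Finset.univ.filter fun h : ZMod q => IsConj z (z ^ h.val),
        stdAddChar (b * (j - h * i)) := fun b hb => by
    rw [sum_mu_mul, inv_inv, hC _ (ord_pow_val hz hb), Nat.card_zpowers, ord_pow_val hz hb,
      ← Equiv.sum_comp (Equiv.mulLeft₀ b hb), Finset.sum_filter, Finset.mul_sum, Finset.sum_mul]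
    refine Finset.sum_congr rfl fun h _ => ?_
    have : IsConj (z ^ (b * h).val) (z ^ b.val) ↔ IsConj z (z ^ h.val) := by
      refine ⟨fun e => ?_, fun e => (isConj_mul hz e b).symm⟩
      have := e.symm.pow b⁻¹.val
      rwa [← pow_val_mul hz, ← pow_val_mul hz, inv_mul_cancel_left₀ hb, inv_mul_cancel₀ hb,
        ZMod.val_one, pow_one] at this
    rw [Equiv.mulLeft₀_apply, this]
    split_ifs
    · rw [inv_mul_cancel_left₀ q_ne, ← AddChar.map_add_eq_mul]; congr 1; ring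
    · simp
  have h4 : (∑ χ : IrrCharacter G, mu z χ.1 i * χ.1 (z ^ (0 : ZMod q).val)⁻¹) *
      stdAddChar ((0 : ZMod q) * j) = (q : ℂ)⁻¹ * Nat.card G := by
    rw [sum_mu_mul, Finset.sum_eq_single 0]
    · simp
    · intro a _ ha
      simp [pow_val_ne hz ha]
    · simp
  rw [h2, ← Finset.add_sum_erase _ _ (Finset.mem_univ 0), h4,
    Finset.sum_congr rfl fun b hb => h3 b (Finset.mem_erase.mp hb).1, Finset.sum_comm]
  have h5 : ∀ h : ZMod q, ∑ b ∈ Finset.univ.erase 0, stdAddChar (b * (j - h * i)) =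
      ((if h * i = j then (q : ℂ) else 0) - 1) := fun h => by
    rw [Finset.sum_erase_eq_sub (Finset.mem_univ _), sum_e]
    simp [sub_eq_zero, eq_comm]
  simp only [h5]
  rw [sq, mul_assoc, mul_inv_cancel_left₀ q_ne, mul_add, mul_inv_cancel_left₀ q_ne]

open Classical in
/-- the numerical data -/
structure Mu [Fintype G] (z : G) (e n : ℕ) (m : IrrCharacter G → ZMod q → ℤ) : Prop where
  eq : ∀ χ i, mu z χ.1 i = m χ i
  nonneg : ∀ χ i, 0 ≤ m χ i
  sum : ∀ χ, ∑ i, m χ i = SC3.dg χ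
  deg : ∀ i j, ∑ χ, (m χ i - m χ j) * SC3.dg χ = 0
  norm : ∀ i, i ≠ 0 → ∑ χ, (m χ 0 - m χ i) ^ 2 = e + 1
  two : ∀ i j, i ≠ 0 → j ≠ 0 → (∀ χ, m χ i = m χ j) ∨ (∑ χ, (m χ i - m χ j) ^ 2 = 2 ∧
    ∀ χ, e * (m χ i + m χ j) ≤ SC3.dg χ)
  orb : ∀ χ i, i ≠ 0 → m χ 0 + e * m χ i ≤ SC3.dg χ
  dvd : (q : ℤ) ∣ n - e
  dvd' : e ∣ n
  dvd'' : e ∣ q - 1

theorem exists_mu [Fintype G] (hC : ∀ y : G, orderOf y = q → centralizer {y} = zpowers y) {n : ℕ}
    (hn : Nat.card G = q * n) : ∃ e m, Mu (q := q) z e n m := by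
  classical
  choose m hm using fun (χ : IrrCharacter G) i => mu_nat hz (isChar_of_irr χ.2) i
  obtain ⟨H, hH'⟩ : ∃ H : Finset (ZMod q), ∀ h, h ∈ H ↔ IsConj z (z ^ h.val) :=
    ⟨Finset.univ.filter fun h : ZMod q => IsConj z (z ^ h.val), by simp⟩
  have hz1 : z ≠ 1 := by simpa [ZMod.val_one] using pow_val_ne hz one_ne_zero
  have h0 : ∀ h ∈ H, h ≠ 0 := fun h e f => by simp [hH', f, hz1] at e
  have h1 : (1 : ZMod q) ∈ H := by rw [hH', ZMod.val_one, pow_one]
  have h2 : ∀ χ, ∀ h ∈ H, ∀ i, m χ (h * i) = m χ i := fun χ h e i => by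
    have := mu_mul (h0 h e) (fun a => (classFun_of_isConj (isChar_classFun (isChar_of_irr χ.2))
      (isConj_mul hz ((hH' h).mp e) a)).symm) i
    rw [hm, hm, mul_comm] at this
    exact_mod_cast this
  have h3 : ∀ χ, ∑ i, (m χ i : ℤ) = SC3.dg χ := fun χ => by
    have := sum_mu z χ.1 (0 : ZMod q)
    simp only [hm, mul_zero, AddChar.map_zero_eq_one, mul_one, ZMod.val_zero, pow_zero,
      SC3.dg_eq] at this
    exact_mod_cast this
  have h4 : ∀ i, ∑ χ, (m χ i : ℤ) * SC3.dg χ = n := fun i => by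
    have := sum_mu_mul (z := z) 1 i
    rw [Finset.sum_eq_single (0 : ZMod q) (fun a _ ha => by simp [pow_val_ne hz ha])
      (by simp)] at this
    simp only [hm, SC3.dg_eq] at this
    have e : ∑ χ, (m χ i : ℂ) * SC3.dg χ = n := by
      rw [this, inv_one, (centralizer_eq_top_iff_subset ..).mpr (by simp), card_top, hn]
      simp [inv_mul_cancel_left₀ (q_ne (q := q))]
    exact_mod_cast e
  have h5 : ∀ i j, (q : ℤ) * ∑ χ, (m χ i : ℤ) * m χ j =
      n - H.card + q * (H.filter fun h => h * i = j).card := fun i j => by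
    have := sum_mu_mu hz hC hH' i j
    simp only [hm, hn, Finset.sum_sub_distrib, ← Finset.sum_filter, Finset.sum_const,
      nsmul_eq_mul] at this
    have e : (q : ℂ) * ∑ χ, (m χ i : ℂ) * m χ j =
        n - H.card + q * (H.filter fun h => h * i = j).card := by
      apply mul_left_cancel₀ (q_ne (q := q))
      push_cast at this
      linear_combination this
    exact_mod_cast e
  have h6 : ∀ i j, (q : ℤ) * ∑ χ, ((m χ i : ℤ) - m χ j) ^ 2 =
      q * ((H.filter fun h => h * i = i).card + (H.filter fun h => h * j = j).card -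
        2 * (H.filter fun h => h * i = j).card) := fun i j => by
    have : ∑ χ, ((m χ i : ℤ) - m χ j) ^ 2 = ∑ χ, (m χ i : ℤ) * m χ i + ∑ χ, (m χ j : ℤ) * m χ j -
        2 * ∑ χ, (m χ i : ℤ) * m χ j := by
      rw [Finset.mul_sum, ← Finset.sum_add_distrib, ← Finset.sum_sub_distrib]
      exact Finset.sum_congr rfl fun _ _ => by ring
    rw [this]
    linear_combination h5 i i + h5 j j - 2 * h5 i j
  have hq0 : (q : ℤ) ≠ 0 := Nat.cast_ne_zero.mpr hq.out.ne_zero
  have h7 : ∀ i, i ≠ 0 → (H.filter fun h => h * i = i).card = 1 := fun i hi =>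
    Finset.card_eq_one.mpr ⟨1, Finset.eq_singleton_iff_unique_mem.mpr ⟨by simp [h1],
      fun h e => (mul_eq_right₀ hi).mp (Finset.mem_filter.mp e).2⟩⟩
  have h8 : ∀ χ i, i ≠ 0 → ∑ j ∈ H.image (· * i), (m χ j : ℤ) = H.card * m χ i := fun χ i hi => by
    rw [Finset.sum_image fun a _ b _ e => mul_right_cancel₀ hi e,
      Finset.sum_congr rfl fun h e => congrArg _ (h2 χ h e i)]
    simp
  have h9 : ∀ χ (s : Finset (ZMod q)), ∑ j ∈ s, (m χ j : ℤ) ≤ SC3.dg χ := fun χ s =>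
    h3 χ ▸ Finset.sum_le_sum_of_subset_of_nonneg (Finset.subset_univ s) fun _ _ _ => by positivity
  have hSC : SC3.SC (zpowers z) := fun x hx hx1 => by
    have e : zpowers x = zpowers z := eq_of_le_of_card_ge (zpowers_le.mpr hx) (by
      rw [Nat.card_zpowers, Nat.card_zpowers, orderOf_eq_prime (p := q)
        (orderOf_dvd_iff_pow_eq_one.mp (hz ▸ orderOf_dvd_of_mem_zpowers hx)) hx1, hz])
    rw [← e]
    exact hC x (by rw [← Nat.card_zpowers, e, Nat.card_zpowers, hz])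
  have h10 : H.card = (zpowers z).relIndex (SC3.Nm (zpowers z)) := by
    rw [← hSC.card_Oc (mem_zpowers z) hz1]
    refine Finset.card_bij (fun h _ => z ^ h.val) (fun h e => SC3.mem_Oc.mpr
      ⟨pow_mem (mem_zpowers z) _, (hH' h).mp e⟩) (fun a _ b _ e => pow_val_inj hz e) fun y hy => ?_
    obtain ⟨e1, e2⟩ := SC3.mem_Oc.mp hy
    obtain ⟨k, rfl⟩ := (mem_powers_iff_mem_zpowers.mpr e1)
    have e3 : z ^ (k : ZMod q).val = z ^ k := by
      rw [ZMod.val_natCast, ← pow_eq_pow_mod _ (hz ▸ pow_orderOf_eq_one z)]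
    exact ⟨k, (hH' _).mpr (e3 ▸ e2), e3⟩
  refine ⟨H.card, fun χ i => m χ i, fun χ i => by rw [hm]; rfl, fun _ _ => by positivity, h3,
    fun i j => by simp only [sub_mul, Finset.sum_sub_distrib, h4, sub_self], fun i hi => ?_,
    fun i j hi hj => ?_, fun χ i hi => ?_, ?_, ?_, ?_⟩
  · have := mul_left_cancel₀ hq0 (h6 0 i)
    simpa [h7 i hi, hi.symm] using this
  · refine or_iff_not_imp_left.mpr fun hc => ⟨?_, fun χ => ?_⟩
    · have := mul_left_cancel₀ hq0 (h6 i j)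
      rw [h7 i hi, h7 j hj, Finset.filter_eq_empty_iff (p := fun h => h * i = j).mpr
        fun h e f => hc fun χ => by rw [← f, h2 χ h e]] at this
      simpa using this
    · rw [mul_add, ← h8 χ i hi, ← h8 χ j hj, ← Finset.sum_union]
      · exact h9 χ _
      · refine Finset.disjoint_left.mpr fun x e1 e2 => hc fun χ => ?_
        obtain ⟨a, ha, rfl⟩ := Finset.mem_image.mp e1
        obtain ⟨b, hb, e3⟩ := Finset.mem_image.mp e2
        rw [← h2 χ a ha, ← e3, h2 χ b hb]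
  · rw [← h8 χ i hi, ← Finset.sum_insert (f := fun j => (m χ j : ℤ))]
    · exact h9 χ _
    · simpa [hi] using fun e => h0 0 e rfl
  · have := h5 0 1
    rw [Finset.filter_eq_empty_iff.mpr (by simp)] at this
    exact ⟨_, by simpa using this.symm⟩
  · rw [h10]
    refine (relIndex_dvd_index_of_le (SC3.le_Nm _)).trans (dvd_of_eq ?_)
    apply Nat.eq_of_mul_eq_mul_left hq.out.pos
    rw [← hn, ← (zpowers z).card_mul_index, Nat.card_zpowers, hz]
  · rw [h10]
    simpa only [Nat.card_zpowers, hz] using hSC.rel_dvd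

end Cfsg.Agent.N9
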