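import Cfsg.Agent.N9.Mult
import Cfsg.Agent.N9.Num

/-! The character of degree nine. -/

namespace Cfsg.Agent.N9

open Cfsg Cfsg.Agent.CharLib Cfsg.Agent.Thom Subgroup ZMod
open scoped ComplexConjugate

variable {G : Type*} [Group G] [Fintype G] {q : ℕ} [hq : Fact q.Prime] {z : G} {e n : ℕ}
  {m : IrrCharacter G → ZMod q → ℤ}

omit [Fintype G] in
theorem ne_triv {χ : IrrCharacter G} (h : χ ≠ SC3.triv G) : χ.1 ≠ fun _ => 1 :=
  fun e => h (Subtype.ext e)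

namespace Mu

variable (T : Mu z e n m)
include T

theorem triv (i : ZMod q) : m (SC3.triv G) i = if i = 0 then 1 else 0 := by
  have := (T.eq (SC3.triv G) i).symm.trans (mu_one z i)
  split_ifs at this ⊢ <;> exact_mod_cast this

theorem congr {χ ψ : IrrCharacter G} (h : ∀ j : ℕ, χ.1 (z ^ j) = ψ.1 (z ^ j)) : m χ = m ψ :=
  funext fun i => by
    have : (m χ i : ℂ) = m ψ i := by simp only [← T.eq, mu, h]
    exact_mod_cast this

theorem const {χ : IrrCharacter G} {c : ℤ} (h : ∀ i, i ≠ 0 → m χ i = c) :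
    (SC3.dg χ : ℤ) = m χ 0 + (q - 1) * c := by
  rw [← T.sum, ← Finset.add_sum_erase _ _ (Finset.mem_univ 0),
    Finset.sum_congr rfl fun i hi => h i (Finset.mem_erase.mp hi).1]
  simp [Nat.cast_sub hq.out.one_le]

theorem expand {i : ZMod q} (s : Finset (IrrCharacter G))
    (h : (e : ℤ) + 1 ≤ ∑ χ ∈ s, (m χ 0 - m χ i) ^ 2) (hi : i ≠ 0) {M : Type*} [CommRing M]
    (f : IrrCharacter G → M) : ∑ χ, ((m χ 0 - m χ i : ℤ) : M) * f χ =
      ∑ χ ∈ s, ((m χ 0 - m χ i : ℤ) : M) * f χ :=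
  (Finset.sum_subset (Finset.subset_univ s) fun χ _ hχ => by
    rw [sq_support (f := fun χ => m χ 0 - m χ i) s (by rwa [T.norm i hi]) hχ]; simp).symm

variable (hz : orderOf z = q)
include hz

theorem faith [IsSimpleGroup G] {χ : IrrCharacter G} (h : χ ≠ SC3.triv G) :
    ∃ i, i ≠ 0 ∧ 1 ≤ m χ i := by
  by_contra hc
  push Not at hc
  have h1 : ∀ i, i ≠ 0 → m χ i = 0 := fun i hi => by
    have := hc i hi
    have := T.nonneg χ i
    omega
  refine SC3.faithful h (pow_val_ne hz one_ne_zero) ?_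
  have h2 : (SC3.dg χ : ℂ) = m χ 0 := by
    have := T.const h1
    rw [mul_zero, add_zero] at this
    exact_mod_cast this
  rw [← sum_mu z χ.1, Finset.sum_eq_single 0 (fun i _ hi => by simp [T.eq, h1 i hi]) (by simp), T.eq,
    SC3.dg_eq, h2]
  simp

theorem def0 (hn : Nat.card G = q * n) (hn' : ¬ q ∣ n) {χ : IrrCharacter G} (h : q ∣ SC3.dg χ)
    (i : ZMod q) : m χ i = m χ 0 := by
  obtain ⟨d, hd⟩ := h
  have h1 : ∀ a : ZMod q, a ≠ 0 → χ.1 (z ^ a.val) = 0 := fun a ha =>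
    eq_zero_of_defZero hq.out χ.2 ⟨d, n, hn', by rw [SC3.dg_eq, hd, hn]; push_cast; ring⟩
      (ord_pow_val hz ha).symm.dvd
  have : (m χ i : ℂ) = m χ 0 := by
    simp only [← T.eq, mu]
    rw [Finset.sum_eq_single 0 (fun a _ ha => by simp [h1 a ha]) (by simp),
      Finset.sum_eq_single 0 (fun a _ ha => by simp [h1 a ha]) (by simp)]
    simp
  exact_mod_cast this

theorem rat {χ : IrrCharacter G} (h : ∀ g (j : ℕ), j.Coprime (orderOf g) → χ.1 (g ^ j) = χ.1 g)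
    (i : ZMod q) (hi : i ≠ 0) : m χ i = m χ 1 := by
  have := mu_mul (z := z) (χ := χ.1) hi (fun a => by
    rw [mul_comm, pow_val_mul hz]
    refine h _ _ (Nat.Coprime.coprime_dvd_right ((orderOf_pow_dvd _).trans hz.dvd) ?_)
    exact (Nat.coprime_of_lt_prime (by simpa using hi) i.val_lt hq.out).symm) 1
  rw [one_mul, T.eq, T.eq] at this
  exact_mod_cast this

theorem beta [IsSimpleGroup G] {χ : IrrCharacter G} (h0 : χ ≠ SC3.triv G)
    (h : ∀ g (j : ℕ), j.Coprime (orderOf g) → χ.1 (g ^ j) = χ.1 g) (h5 : 5 ≤ q)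
    (hd : SC3.dg χ ≤ q + 1) (i : ZMod q) (hi : i ≠ 0) : m χ 0 - m χ i = SC3.dg χ - q := by
  have h1 := T.const (T.rat hz h)
  obtain ⟨j, hj, h2⟩ := T.faith hz h0
  rw [T.rat hz h j hj] at h2
  rw [T.rat hz h i hi]
  have := T.nonneg χ 0
  have h3 : m χ 1 = 1 := by
    have : (5 : ℤ) ≤ q := by exact_mod_cast h5
    have : (SC3.dg χ : ℤ) ≤ q + 1 := by exact_mod_cast hd
    nlinarith
  rw [h3] at h1 ⊢
  linarith

theorem le_dg [IsSimpleGroup G] {χ : IrrCharacter G} (h0 : χ ≠ SC3.triv G) : e ≤ SC3.dg χ := by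
  obtain ⟨j, hj, h2⟩ := T.faith hz h0
  have := T.orb χ j hj
  have := T.nonneg χ 0
  have : (e : ℤ) ≤ SC3.dg χ := by nlinarith [(Nat.cast_nonneg e : (0 : ℤ) ≤ e)]
  exact_mod_cast this

omit T hz in
theorem dg_dvd {a : ℕ} (T : Mu z e (9 * 2 ^ a) m) (hz : orderOf z = q)
    (hn : Nat.card G = q * (9 * 2 ^ a)) (hq2 : q ≠ 2) (hq3 : q ≠ 3)
    {χ : IrrCharacter G} {i : ZMod q} (h : m χ 0 - m χ i ≠ 0) : SC3.dg χ ∣ 9 * 2 ^ a := by
  refine Nat.Coprime.dvd_of_dvd_mul_left (hq.out.coprime_iff_not_dvd.mpr fun f => h ?_).symm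
    (hn ▸ SC3.dg_dvd χ)
  rw [T.def0 hz hn (fun f => ?_) f i, sub_self]
  rcases (Nat.Prime.dvd_mul hq.out).mp f with f | f
  · exact hq3 ((Nat.prime_dvd_prime_iff_eq hq.out Nat.prime_three).mp
      (hq.out.dvd_of_dvd_pow (n := 2) f))
  · exact hq2 ((Nat.prime_dvd_prime_iff_eq hq.out Nat.prime_two).mp (hq.out.dvd_of_dvd_pow f))

end Mu

theorem Mu.psi [IsSimpleGroup G] (hG : ¬ IsMulCommutative G) {a : ℕ} (T : Mu z e (9 * 2 ^ a) m)
    (hz : orderOf z = q) (hn : Nat.card G = q * (9 * 2 ^ a)) (hq2 : q ≠ 2) (hq3 : q ≠ 3)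
    {M : ℕ} {B : G → Prop} {R : Sylow 3 G} {r : G} (D : Dat M B R r) (i : ZMod q) (hi : i ≠ 0) :
    ∃ ψ, ψ ≠ SC3.triv G ∧ SC3.dg ψ = 9 ∧ Odd (m ψ 0 - m ψ i) := by
  classical
  have h1 := T.deg 0 i
  rw [← Finset.add_sum_erase _ _ (Finset.mem_univ (SC3.triv G)), T.triv, T.triv, SC3.dg_triv,
    if_pos rfl, if_neg hi] at h1
  obtain ⟨ψ, h2, h3⟩ : ∃ ψ ∈ Finset.univ.erase (SC3.triv G),
      Odd ((m ψ 0 - m ψ i) * SC3.dg ψ) := by
    by_contra hc
    push Not at hc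
    obtain ⟨w, hw⟩ := Finset.even_sum _ fun ψ h => Int.not_odd_iff_even.mp (hc ψ h)
    omega
  replace h2 := (Finset.mem_erase.mp h2).1
  rw [Int.odd_mul] at h3
  have h4 : SC3.dg ψ ∣ 3 ^ 2 := Nat.Coprime.dvd_of_dvd_mul_right
    (Nat.Coprime.pow_right _ (Nat.coprime_two_right.mpr (by exact_mod_cast h3.2)))
    (T.dg_dvd hz hn hq2 hq3 (i := i) fun e => by simp [e] at h3)
  obtain ⟨j, -, hj⟩ := (Nat.dvd_prime_pow Nat.prime_three).mp h4
  have h5 := (card_dvd_of_le D.le_cent).trans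
    (cent_dvd hG ψ.2 (ne_triv h2) (j := j) (by rw [SC3.dg_eq, hj]) R)
  rw [card_syl D.card D.cop R, ← hj] at h5
  exact ⟨ψ, h2, Nat.dvd_antisymm h4 h5, h3.1⟩

theorem Mu.not_nine {a s : ℕ} (T : Mu z 9 (9 * 2 ^ a) m) [IsSimpleGroup G]
    (hz : orderOf z = q) (hn : Nat.card G = q * (9 * 2 ^ a)) (hq2 : q ≠ 2) (hq3 : q ≠ 3)
    (hs : q + 1 = 2 ^ s) (hs' : 5 ≤ s) {β ψ : IrrCharacter G} (hβ : SC3.dg β = q + 1)
    (hβ' : m β 0 - m β 1 = 1) (h0 : ψ ≠ SC3.triv G) (hψ : SC3.dg ψ = 9)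
    (hψ' : Odd (m ψ 0 - m ψ 1)) : False := by
  classical
  have hq' : 32 ≤ q + 1 := hs ▸ Nat.pow_le_pow_right two_pos hs'
  have h1 : m ψ 0 = 0 := by
    obtain ⟨j, hj, h2⟩ := T.faith hz h0
    have := T.orb ψ j hj
    have := T.nonneg ψ 0
    omega
  have h2 : m ψ 1 = 1 := by
    have := T.orb ψ 1 one_ne_zero
    have := T.nonneg ψ 1
    obtain ⟨w, hw⟩ := hψ'
    omega
  have h3 : β ≠ ψ := fun e => by rw [e] at hβ; omega
  obtain ⟨φ, h4, h5⟩ : ∃ φ, φ ≠ ψ ∧ m φ 0 - m φ 1 < 0 := by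
    by_contra hc
    push Not at hc
    have e1 := T.deg 0 1
    rw [← Finset.add_sum_erase _ _ (Finset.mem_univ ψ)] at e1
    have := Finset.single_le_sum (f := fun χ => (m χ 0 - m χ 1) * SC3.dg χ)
      (fun χ h => mul_nonneg (hc χ (Finset.mem_erase.mp h).1) (Nat.cast_nonneg _))
      (Finset.mem_erase.mpr ⟨h3, Finset.mem_univ β⟩)
    simp only [hβ', hβ, h1, h2, hψ] at this e1
    omega
  have h6 : m φ 0 - m φ 1 = -1 ∨ m φ 0 - m φ 1 = -2 := by
    have e1 := Finset.sum_le_sum_of_subset_of_nonneg (Finset.subset_univ {φ, ψ, β})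
      (f := fun χ => (m χ 0 - m χ 1) ^ 2) fun _ _ _ => sq_nonneg _
    rw [T.norm 1 one_ne_zero, Finset.sum_insert (by
      simp only [Finset.mem_insert, Finset.mem_singleton, h4, false_or]
      rintro rfl; omega), Finset.sum_pair h3.symm, h1, h2, hβ'] at e1
    have : -3 < m φ 0 - m φ 1 := by push_cast at e1; nlinarith
    omega
  have h7 : ∀ j, j ≠ 0 → m φ j = m φ 1 := fun j hj => by
    by_contra hc
    obtain ⟨e1, e2⟩ := (T.two 1 j one_ne_zero hj).resolve_left fun e => hc (e φ).symm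
    have e3 : m ψ j = 0 := by
      have := e2 ψ
      have := T.nonneg ψ j
      omega
    have e4 := Finset.sum_le_sum_of_subset_of_nonneg (Finset.subset_univ {φ, ψ})
      (f := fun χ => (m χ 1 - m χ j) ^ 2) fun _ _ _ => sq_nonneg _
    have e5 : 1 ≤ (m φ 1 - m φ j) ^ 2 := 
      sq_pos_of_ne_zero (sub_ne_zero.mpr (Ne.symm hc))
    have e6 := T.deg 1 j
    rw [← Finset.sum_subset (Finset.subset_univ {φ, ψ}) fun χ _ hχ => by
      rw [sq_support (f := fun χ => m χ 1 - m χ j) {φ, ψ} (by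
        rw [e1, Finset.sum_pair h4, h2, e3]; omega) hχ, zero_mul], Finset.sum_pair h4, h2, e3, hψ] at e6
    rw [e1, Finset.sum_pair h4, h2, e3] at e4
    have e7 : m φ 1 - m φ j = 1 ∨ m φ 1 - m φ j = -1 := sq_eq_one_iff.mp (by omega)
    have e8 := e2 φ
    have := T.nonneg φ 0
    rcases e7 with e7 | e7 <;> rw [e7] at e6 <;> omega
  refine nt_three hs hs' (T.dg_dvd hz hn hq2 hq3 h5.ne) h6 ⟨m φ 1, ?_⟩
  rw [T.const h7]; ring

/-- the degree nine character is determined by its restriction -/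
theorem Mu.uniq (T : Mu z e n m) [IsSimpleGroup G] (hz : orderOf z = q) (h10 : 10 < q)
    {ψ φ : IrrCharacter G} (h0 : ψ ≠ SC3.triv G) (hψ : SC3.dg ψ = 9) (h : m φ = m ψ) : φ = ψ := by
  by_contra h4
  obtain ⟨j, hj, hc⟩ : ∃ j, j ≠ 0 ∧ m ψ j ≠ m ψ 1 := by
    by_contra hc
    push Not at hc
    obtain ⟨j, hj, h2⟩ := T.faith hz h0
    have := T.const hc
    have := T.nonneg ψ 0
    have : (10 : ℤ) < q := by exact_mod_cast h10
    rw [hc j hj] at h2
    nlinarith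
  obtain ⟨e1, -⟩ := (T.two 1 j one_ne_zero hj).resolve_left fun e => hc (e ψ).symm
  have e5 : 1 ≤ (m ψ 1 - m ψ j) ^ 2 := 
      sq_pos_of_ne_zero (sub_ne_zero.mpr (Ne.symm hc))
  have e6 := T.deg 1 j
  rw [← Finset.sum_subset (Finset.subset_univ {φ, ψ}) fun χ _ hχ => by
    rw [sq_support (f := fun χ => m χ 1 - m χ j) {φ, ψ} (by
      rw [e1, Finset.sum_pair h4, h]; omega) hχ, zero_mul], Finset.sum_pair h4, ← T.sum φ, h,
      T.sum, hψ] at e6
  omega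

omit hq in
/-- a character of degree nine on the centralizer of an element of order three -/
theorem avg_third {M : ℕ} (hM : Nat.card G = 9 * M) (hM' : ¬ 3 ∣ M) {ψ : IrrCharacter G}
    (hψ : SC3.dg ψ = 9) {k u : G} (hk : orderOf k = 3) (hu : PP 3 u) (hc : Commute u k) :
    avg (zpowers k) ψ.1 u = ψ.1 u / 3 := by
  have h1 : k ≠ 1 := fun e => by simp [e] at hk
  have h3 : k ^ 3 = 1 := hk ▸ pow_orderOf_eq_one k
  have h2 : ∀ x, x ≠ 1 → x ^ 3 = 1 → Commute u x → ψ.1 (u * x) = 0 := fun x e1 e2 e3 => by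
    refine eq_zero_of_defZero Nat.prime_three ψ.2
      ⟨1, M, hM', by rw [SC3.dg_eq, hψ, hM]; simp⟩ (by_contra fun e => e1 ?_)
    have := hu.inv.mul_of_commute ⟨_, (Nat.prime_three.coprime_iff_not_dvd.mpr e).symm,
      pow_orderOf_eq_one (u * x)⟩ ((Commute.refl u).mul_right e3).inv_left
    rw [inv_mul_cancel_left] at this
    exact this.eq_one ⟨1, e2⟩
  rw [avg, sum_tri (L := ⊥) (k := k) (by rw [show 9 = 3 * 3 from rfl, pow_mul, h3, one_pow])
    (mem_zpowers k) h1 bot_le fun c hc => by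
      simpa [inv_mul_eq_one, mul_eq_one_iff_inv_eq, eq_comm] using (tri_zpowers hk).mp hc,
    Nat.card_zpowers, hk]
  have h4 : ∀ f : G → ℂ, ∑ x, (@ite _ (x ∈ (⊥ : Subgroup G)) (Classical.propDecidable _) (f x) 0) =
      f 1 := fun f => by
    rw [Finset.sum_eq_single 1 (fun x _ hx => if_neg (mem_bot.not.mpr hx)) (by simp),
      if_pos (one_mem _)]
  simp [h4, h2 k h1 h3 hc, h2 k⁻¹ (inv_ne_one.mpr h1) (by rw [inv_pow, h3, inv_one]) hc.inv_right,
    div_eq_inv_mul]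

end Cfsg.Agent.N9
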