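import Cfsg.Agent.N9.Cnt
import Cfsg.Agent.N9.Tools
import Mathlib.NumberTheory.LSeries.PrimesInAP

/-! The virtual character `1 + χ - χ'`. -/

namespace Cfsg.Agent.N9

open Cfsg Cfsg.Agent.CharLib Cfsg.Agent.Thom Subgroup
open scoped Pointwise ComplexConjugate

variable {G : Type*} [Group G] [Fintype G]

section tri
variable {H L : Subgroup G} {k : G} (h9 : k ^ 9 = 1) (hk : k ∈ H) (hk' : k ∉ L) (hle : L ≤ H)
  (h : ∀ c ∈ H, c ∈ L ∨ k⁻¹ * c ∈ L ∨ k * c ∈ L)
include h9 hk hk' hle h

open Classical in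
theorem sum_tri (f : G → ℂ) : ∑ u, (if u ∈ H then f u else 0) = ∑ u, (if u ∈ L then f u else 0) +
    ∑ u, (if u ∈ L then f (k * u) else 0) + ∑ u, (if u ∈ L then f (k⁻¹ * u) else 0) := by
  rw [← Equiv.sum_comp (Equiv.mulLeft k⁻¹) fun u => if u ∈ L then f (k * u) else 0,
    ← Equiv.sum_comp (Equiv.mulLeft k) fun u => if u ∈ L then f (k⁻¹ * u) else 0,
    ← Finset.sum_add_distrib, ← Finset.sum_add_distrib]
  refine Finset.sum_congr rfl fun u _ => ?_
  simp only [Equiv.coe_mulLeft, mul_inv_cancel_left, inv_mul_cancel_left]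
  have e1 : ¬ (u ∈ L ∧ k⁻¹ * u ∈ L) := fun e => hk' (by simpa using mul_mem e.1 (inv_mem e.2))
  have e2 : ¬ (u ∈ L ∧ k * u ∈ L) := fun e => hk' (by simpa using mul_mem e.2 (inv_mem e.1))
  have e3 : ¬ (k⁻¹ * u ∈ L ∧ k * u ∈ L) := fun e => hk' (by
    have := pow_mem (mul_mem e.2 (inv_mem e.1)) 5
    rwa [show k * u * (k⁻¹ * u)⁻¹ = k ^ 2 by rw [sq]; group, ← pow_mul, pow_succ, h9,
      one_mul] at this)
  by_cases h0 : u ∈ H
  · rcases h u h0 with e | e | e
    · simp [h0, e, not_and.mp e1 e, not_and.mp e2 e]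
    · simp [h0, e, not_and'.mp e1 e, not_and.mp e3 e]
    · simp [h0, e, not_and'.mp e2 e, not_and'.mp e3 e]
  · have f1 : u ∉ L := fun e => h0 (hle e)
    have f2 : k⁻¹ * u ∉ L := fun e => h0 (by simpa using mul_mem hk (hle e))
    have f3 : k * u ∉ L := fun e => h0 (by simpa using mul_mem (inv_mem hk) (hle e))
    simp [h0, f1, f2, f3]

theorem card_tri : (Nat.card H : ℂ) = 3 * Nat.card L := by
  have := sum_tri h9 hk hk' hle h fun _ => 1
  simp only [sum_ite_mem_const] at this
  linear_combination this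

theorem avg_tri {χ : G → ℂ} (hχ : IsCharacter G χ) : ∃ w : ℤ, avg L χ k + avg L χ k⁻¹ = w := by
  obtain ⟨a, ha⟩ := avg_one H hχ
  obtain ⟨b, hb⟩ := avg_one L hχ
  refine ⟨3 * a - b, ?_⟩
  push_cast
  rw [← ha, ← hb]
  simp only [avg, one_mul]
  rw [sum_tri h9 hk hk' hle h χ, card_tri h9 hk hk' hle h]
  have := card_cast_ne L
  field_simp
  ring

end tri

open Classical in
/-- the function `Θ` -/
noncomputable def th (B : G → Prop) (g : G) : ℂ := if B g then 0 else 3

/-- the two integer valued irreducible characters -/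
structure Th (B : G → Prop) (c c' : G → ℤ) : Prop where
  irr : IsIrrCharacter G fun g => c g
  irr' : IsIrrCharacter G fun g => c' g
  ne : (fun g => (c g : ℂ)) ≠ fun _ => 1
  ne' : (fun g => (c' g : ℂ)) ≠ fun _ => 1
  eq : ∀ g, th B g = 1 + c g - c' g
  pow : ∀ g (j : ℕ), j.Coprime (orderOf g) → c (g ^ j) = c g ∧ c' (g ^ j) = c' g

omit [Fintype G] in
theorem exists_cop [Finite G] {n j : ℕ} (hn : n ≠ 0) (hj : j.Coprime n) :
    ∃ i : ℕ, i.Coprime (Nat.card G) ∧ i ≡ j [MOD n] := by
  obtain ⟨p, h1, h2, h3⟩ := Nat.forall_exists_prime_gt_and_modEq (Nat.card G) hn hj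
  exact ⟨p, (Nat.coprime_of_lt_prime Nat.card_pos.ne' h1 h2), h3⟩

namespace Dat

variable {m : ℕ} {B : G → Prop} {R : Sylow 3 G} {r : G} (D : Dat m B R r)
include D

open Classical in
theorem ident {ψ : G → ℂ} (hψ : IsClassFunction G ψ) :
    ∑ k, (if k ^ 9 = 1 ∧ ¬ B k then
      ∑ u, (if u ∈ centralizer ({k} : Set G) ∧ B u then ψ (k * u) else 0) else 0) =
    ∑ g, (if B g then 0 else ψ g) + 2 * (normalizer ((R : Subgroup G) : Set G)).index *
      ∑ g, (if g ∈ centralizer ((R : Subgroup G) : Set G) ∧ ¬ B g then ψ g else 0) := by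
  have := Fintype.ofFinite (Sylow 3 G)
  have h1 : ∀ k, (if k ^ 9 = 1 ∧ ¬ B k then
      ∑ u, (if u ∈ centralizer ({k} : Set G) ∧ B u then ψ (k * u) else 0) else 0) =
      ∑ g, (if (k ^ 9 = 1 ∧ ¬ B k) ∧ g ∈ centralizer ({k} : Set G) ∧ B (k⁻¹ * g) then 1 else 0) *
        ψ g := fun k => by
    rw [← Equiv.sum_comp (Equiv.mulLeft k⁻¹)]
    have h4 : k⁻¹ ∈ centralizer ({k} : Set G) := inv_mem (mem_centralizer_singleton_iff.mpr rfl)
    by_cases e : k ^ 9 = 1 ∧ ¬ B k <;> simp [e, mul_mem_cancel_left h4]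
  have h2 : ∀ P : Sylow 3 G,
      ∑ g, (if g ∈ centralizer ((P : Subgroup G) : Set G) ∧ ¬ B g then ψ g else 0) =
      ∑ g, (if g ∈ centralizer ((R : Subgroup G) : Set G) ∧ ¬ B g then ψ g else 0) := fun P => by
    obtain ⟨y, rfl⟩ := MulAction.exists_smul_eq G R P
    refine (Fintype.sum_equiv (MulAut.conj y).toEquiv _ _ fun g => ?_).symm
    have : y * g * y⁻¹ ∈ centralizer (((y • R : Sylow 3 G) : Subgroup G) : Set G) ↔
        g ∈ centralizer ((R : Subgroup G) : Set G) := by
      constructor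
      · intro e x (hx : x ∈ (R : Subgroup G))
        have := e (y * x * y⁻¹) (mem_smul_sylow.mpr (by rwa [show y⁻¹ * (y * x * y⁻¹) * y = x by group]))
        rwa [conj_mul, conj_mul, mul_left_inj, mul_right_inj] at this
      · intro e x hx
        have := e _ (mem_smul_sylow.mp hx)
        calc x * (y * g * y⁻¹) = y * (y⁻¹ * x * y * g) * y⁻¹ := by group
          _ = _ := by rw [this]; group
    simp only [MulEquiv.toEquiv_eq_coe, MulEquiv.coe_toEquiv, MulAut.conj_apply, this, D.B_conj,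
      hψ g y]
  simp only [h1]
  have h3 : Nat.card (Sylow 3 G) = (normalizer ((R : Subgroup G) : Set G)).index :=
    R.card_eq_index_normalizer
  rw [Finset.sum_comm, ← h3, mul_assoc, Nat.card_eq_fintype_card,
    ← nsmul_eq_mul, ← Finset.card_univ, ← Finset.sum_const,
    ← Finset.sum_congr rfl fun P _ => h2 P, 
    Finset.sum_comm (s := (Finset.univ : Finset (Sylow 3 G))), Finset.mul_sum,
    ← Finset.sum_add_distrib]
  refine Finset.sum_congr rfl fun g _ => ?_
  rw [← Finset.sum_mul, Finset.sum_boole, D.count g]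
  by_cases e : B g
  · simp [e]
  · simp only [e, if_false, not_false_iff, and_true, Finset.card_filter]
    push_cast
    rw [add_mul, one_mul, mul_right_comm, Finset.sum_mul, mul_comm]
    simp

open Classical in
theorem exists_M [IsSimpleGroup G] : ∃ (k : G) (M : Subgroup G), k ∈ normalizer (M : Set G) ∧
    (Nat.card (centralizer ((R : Subgroup G) : Set G)) : ℂ) = 3 * Nat.card M ∧
    ∀ ψ : G → ℂ, IsCharacter G ψ → (∃ w : ℤ, 2 * avg M ψ k = w) ∧
      ∑ g, (if g ∈ centralizer ((R : Subgroup G) : Set G) ∧ ¬ B g then ψ g else 0) =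
        2 * Nat.card M * avg M ψ k := by
  obtain ⟨k, hk, hk'⟩ := D.exists_notMem
  obtain ⟨a, ha, ha'⟩ := D.exists_inv hk hk'
  have hB : ¬ B k := fun e => hk' ((D.B_iff hk).mp e)
  obtain ⟨L, hL, hL'⟩ := D.exists_L (D.pow_nine hk) hB
  set C := centralizer ((R : Subgroup G) : Set G) with hC
  have hle : C ≤ centralizer {k} := centralizer_le (Set.singleton_subset_iff.mpr hk)
  have hM : ∀ c, c ∈ L ⊓ C ↔ c ∈ C ∧ B c := fun c =>
    ⟨fun e => ⟨e.2, ((hL c).mp e.1).2⟩, fun e => ⟨(hL c).mpr ⟨hle e.1, e.2⟩, e.1⟩⟩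
  have h1 := D.le_cent hk
  have h2 : k ∉ L ⊓ C := fun e => hB ((hM k).mp e).2
  have h3 : ∀ c ∈ C, c ∈ L ⊓ C ∨ k⁻¹ * c ∈ L ⊓ C ∨ k * c ∈ L ⊓ C := fun c hc =>
    (hL' c (hle hc)).imp (⟨·, hc⟩) (Or.imp (⟨·, C.mul_mem (C.inv_mem h1) hc⟩)
      (⟨·, C.mul_mem h1 hc⟩))
  refine ⟨k, L ⊓ C, centralizer_le_normalizer _ fun x hx => (hx.2 k hk).symm,
    card_tri (D.pow_nine hk) h1 h2 inf_le_right h3, fun ψ hψ => ?_⟩
  have h4 : avg (L ⊓ C) ψ k⁻¹ = avg (L ⊓ C) ψ k := by
    simp only [avg]
    congr 1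
    have e1 : k * (a * k * a⁻¹) ∈ L ⊓ C :=
      (hM _).mpr ⟨D.le_cent (D.le ha'), (D.B_iff (D.le ha')).mpr ha'⟩
    refine (Fintype.sum_equiv ((MulAut.conj a).toEquiv.trans (Equiv.mulLeft (k * (a * k * a⁻¹))))
      _ _ fun u => ?_).symm
    have e2 : a * u * a⁻¹ ∈ C ↔ u ∈ C :=
      (mem_normalizer_iff.mp ((normal_subgroupOf_iff_le_normalizer
        (centralizer_le_normalizer _)).mp inferInstance ha) u).symm
    simp only [Equiv.trans_apply, MulEquiv.toEquiv_eq_coe, MulEquiv.coe_toEquiv, MulAut.conj_apply,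
      Equiv.coe_mulLeft, mul_mem_cancel_left e1]
    simp only [hM, e2, D.B_conj]
    rw [← isChar_classFun hψ (k * u) a]
    congr 2
    group
  obtain ⟨w, hw⟩ := avg_tri (D.pow_nine hk) h1 h2 inf_le_right h3 hψ
  refine ⟨⟨w, by rw [← hw, h4]; ring⟩, ?_⟩
  have h5 := sum_tri (D.pow_nine hk) h1 h2 inf_le_right h3 ψ
  have h6 : ∑ u, (if u ∈ C then ψ u else 0) = ∑ u, (if u ∈ L ⊓ C then ψ u else 0) +
      ∑ g, (if g ∈ C ∧ ¬ B g then ψ g else 0) := by
    rw [← Finset.sum_add_distrib]
    refine Finset.sum_congr rfl fun u _ => ?_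
    simp only [hM]
    by_cases e : u ∈ C <;> by_cases e' : B u <;> simp [e, e']
  have := card_cast_ne (L ⊓ C)
  simp only [avg] at h4 ⊢
  rw [mul_assoc, mul_inv_cancel_left₀ this]
  linear_combination h5 - h6 + mul_left_cancel₀ (inv_ne_zero this) h4

omit D [Fintype G] in
theorem card_cent_inv (k : G) : centralizer ({k⁻¹} : Set G) = centralizer {k} := by
  ext x
  simp only [mem_centralizer_singleton_iff]
  exact Commute.inv_right_iff

omit D [Fintype G] in
theorem index_mul {E : ℕ} (hE : Nat.card (normalizer ((R : Subgroup G) : Set G)) =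
    E * Nat.card (centralizer ((R : Subgroup G) : Set G))) : (Nat.card G : ℂ) =
      (normalizer ((R : Subgroup G) : Set G)).index *
        (E * Nat.card (centralizer ((R : Subgroup G) : Set G))) := by
  rw [← (normalizer ((R : Subgroup G) : Set G)).index_mul_card, hE]
  push_cast
  rfl

theorem inner_int [IsSimpleGroup G] {ψ : G → ℂ} (hψ : IsCharacter G ψ) :
    ∃ w : ℤ, (Nat.card G : ℂ)⁻¹ * ∑ g, th B g * ψ g = w := by
  classical
  obtain ⟨k0, M, h1, h2, h3⟩ := D.exists_M
  obtain ⟨⟨w, hw⟩, h3⟩ := h3 ψ hψ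
  obtain ⟨y, hy⟩ := int_of_rat (isIntegral_avg M hψ h1) (r := w / 2)
    (by push_cast; rw [← hw]; ring)
  obtain ⟨E, hE, ⟨E', hE'⟩, -⟩ := D.reps
  have h4 := D.ident (isChar_classFun hψ)
  rw [h3, hy] at h4
  let Z : G → ℂ := fun k => if k ^ 9 = 1 ∧ ¬ B k then 3 / Nat.card (centralizer ({k} : Set G)) *
    ∑ u, (if u ∈ centralizer ({k} : Set G) ∧ B u then ψ (k * u) else 0) else 0
  have hZ : IsClassFunction G Z := fun k x => by
    simp only [Z, card_cent_conj, D.B_conj, conj_pow, mul_inv_eq_one, mul_eq_left]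
    congr 2
    refine (Fintype.sum_equiv (MulAut.conj x).toEquiv _ _ fun u => ?_).symm
    simp only [MulEquiv.toEquiv_eq_coe, MulEquiv.coe_toEquiv, MulAut.conj_apply, D.B_conj,
      mem_centralizer_singleton_iff, conj_mul, isChar_classFun hψ _ x, mul_left_inj, mul_right_inj]
  have hZ' : ∀ k, IsIntegral ℤ (Z k) ∧ ∃ w : ℤ, Z k + Z k⁻¹ = w := fun k => by
    by_cases e : k ^ 9 = 1 ∧ ¬ B k
    · obtain ⟨L, hL, hL'⟩ := D.exists_L e.1 e.2
      have e1 : k ∈ centralizer ({k} : Set G) := mem_centralizer_singleton_iff.mpr rfl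
      have e2 : k ∉ L := fun f => e.2 ((hL k).mp f).2
      have e3 : L ≤ centralizer {k} := fun x hx => ((hL x).mp hx).1
      have e4 := card_tri e.1 e1 e2 e3 hL'
      have := card_cast_ne L
      have e5 : Z k = avg L ψ k := by
        simp only [Z, avg, e, hL, e4, not_false_iff, and_self, if_true]
        field_simp
      have e6 : Z k⁻¹ = avg L ψ k⁻¹ := by
        simp only [Z, avg, e, hL, e4, not_false_iff, and_self, if_true, card_cent_inv, inv_pow,
          inv_one, D.B_inv]
        field_simp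
      rw [e5, e6]
      exact ⟨isIntegral_avg L hψ (centralizer_le_normalizer _ fun x hx =>
        mem_centralizer_singleton_iff.mp (e3 hx)), avg_tri e.1 e1 e2 e3 hL' hψ⟩
    · simp only [Z, inv_pow, inv_eq_one, D.B_inv, e, if_false]
      exact ⟨isIntegral_zero, 0, by simp⟩
  have h5 := class_sum_mem (integralClosure ℤ ℂ).toSubring.toAddSubgroup hZ fun k => (hZ' k).1
  obtain ⟨v, hv⟩ := class_sum_mem (Int.castAddHom ℂ).range (z := fun k => Z k + Z k⁻¹)
    (fun k x => by simp only [conj_inv, hZ _ x]) fun k => (hZ' k).2.imp fun _ => Eq.symm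
  simp only [mul_add, Finset.sum_add_distrib] at hv
  rw [← Equiv.sum_comp (Equiv.inv G) fun g => _ * Z g⁻¹] at hv
  simp only [Equiv.inv_apply, inv_inv, card_cent_inv, Int.coe_castAddHom] at hv
  obtain ⟨z, hz⟩ := int_of_rat h5 (r := v / 2) (by push_cast; rw [hv]; ring)
  have h6 : ∑ k, (Nat.card (centralizer ({k} : Set G)) : ℂ) / Nat.card G * Z k =
      3 / Nat.card G * ∑ k, (if k ^ 9 = 1 ∧ ¬ B k then
      ∑ u, (if u ∈ centralizer ({k} : Set G) ∧ B u then ψ (k * u) else 0) else 0) := by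
    rw [Finset.mul_sum]
    refine Finset.sum_congr rfl fun k _ => ?_
    have := card_cast_ne (centralizer ({k} : Set G))
    simp only [Z]
    split_ifs
    · field_simp
    · simp
  have h7 : ∑ g, th B g * ψ g = 3 * ∑ g, (if B g then 0 else ψ g) := by
    rw [Finset.mul_sum]
    refine Finset.sum_congr rfl fun g _ => ?_
    simp only [th]
    split_ifs <;> simp
  have h8 := index_mul hE
  have h9 : (4 : ℂ) = E * E' := by exact_mod_cast hE'
  have h0 := card_ne_zero (G := G)
  refine ⟨z - E' * y, ?_⟩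
  push_cast
  rw [← hz, h6, h4, h7]
  field_simp
  linear_combination (E' * y) * h8 + ((normalizer ((R : Subgroup G) : Set G)).index * E * E' * y) * h2
    - (3 * (normalizer ((R : Subgroup G) : Set G)).index * Nat.card M * y) * h9

theorem sum_th [IsSimpleGroup G] : ∑ g, th B g = Nat.card G := by
  classical
  obtain ⟨w, hw⟩ := D.inner_int isChar_one
  obtain ⟨k0, M, -, h2, h3⟩ := D.exists_M
  obtain ⟨-, h3⟩ := h3 _ isChar_one
  obtain ⟨E, hE, hE', S, hS, hS'⟩ := D.reps
  have h4 := D.ident (isChar_classFun isChar_one)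
  rw [h3] at h4
  have h5 : avg M (fun _ => 1) k0 = 1 := by
    simp only [avg, sum_ite_mem_const, mul_one, inv_mul_cancel₀ (card_cast_ne M)]
  set A := (Finset.univ.filter fun g => ¬ B g).card with hA
  have h6 : ∑ g, (if B g then (0 : ℂ) else 1) = A := by
    rw [hA, Finset.card_filter]; push_cast; simp only [ite_not]
  have h7 : ∑ g, th B g = 3 * A := by
    rw [← h6, Finset.mul_sum]
    refine Finset.sum_congr rfl fun g _ => ?_
    simp only [th]
    split_ifs <;> simp
  have h8 : ∑ k, (if k ^ 9 = 1 ∧ ¬ B k then Nat.card (centralizer ({k} : Set G)) else 0) =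
      3 * A + 4 * ((normalizer ((R : Subgroup G) : Set G)).index *
        Nat.card (centralizer ((R : Subgroup G) : Set G))) := by
    have : ∀ k, (if k ^ 9 = 1 ∧ ¬ B k then (Nat.card (centralizer ({k} : Set G)) : ℂ) else 0) =
        3 * if k ^ 9 = 1 ∧ ¬ B k then
          ∑ u, (if u ∈ centralizer ({k} : Set G) ∧ B u then 1 else 0) else 0 := fun k => by
      split_ifs with e
      · obtain ⟨L, hL, hL'⟩ := D.exists_L e.1 e.2
        simp only [← hL, sum_ite_mem_const, mul_one]
        exact card_tri e.1 (mem_centralizer_singleton_iff.mpr rfl) (fun f => e.2 ((hL k).mp f).2)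
          (fun x hx => ((hL x).mp hx).1) hL'
      · simp
    apply Nat.cast_injective (R := ℂ)
    push_cast
    rw [Finset.sum_congr rfl fun k _ => this k, ← Finset.mul_sum, h4, h5, h6, h2]
    ring
  have h9 : ∑ k, (if k ^ 9 = 1 ∧ ¬ B k then Nat.card (centralizer ({k} : Set G)) else 0) ≤
      S.card * Nat.card G := by
    have : ∀ x : G, ∑ k, (if IsConj x k then Nat.card (centralizer ({k} : Set G)) else 0) =
        Nat.card G := fun x => by
      rw [← (centralizer ({x} : Set G)).index_mul_card, ← card_cls, cls, Finset.card_filter,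
        Finset.sum_mul]
      refine Finset.sum_congr rfl fun k _ => ?_
      split_ifs with e
      · rw [one_mul, card_cent_of_isConj e]
      · simp
    rw [← smul_eq_mul, ← Finset.sum_const, ← Finset.sum_congr rfl fun x _ => this x,
      Finset.sum_comm]
    refine Finset.sum_le_sum fun k _ => ?_
    split_ifs with e
    · obtain ⟨x, e1, e2⟩ := hS k e.1 e.2
      refine le_trans (by simp only [e2, if_true, le_refl]) (Finset.single_le_sum (f := fun x =>
        if IsConj x k then Nat.card (centralizer ({k} : Set G)) else 0) (fun _ _ => Nat.zero_le _) e1)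
    · exact Nat.zero_le _
  have h10 : Nat.card G = (normalizer ((R : Subgroup G) : Set G)).index *
      (E * Nat.card (centralizer ((R : Subgroup G) : Set G))) := by exact_mod_cast index_mul hE
  have h11 : 3 * A ≤ Nat.card G := by
    have hE0 : 0 < E := Nat.pos_of_dvd_of_pos hE' (by norm_num)
    refine Nat.le_of_mul_le_mul_left ?_ hE0
    have := Nat.mul_le_mul_left E (h8 ▸ h9)
    have := Nat.mul_le_mul_right (Nat.card G) hS'
    nlinarith
  have h12 : 0 < A := by
    obtain ⟨k, hk, hk'⟩ := D.exists_notMem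
    exact Finset.card_pos.mpr ⟨k, by simpa using fun e => hk' ((D.B_iff hk).mp e)⟩
  simp only [mul_one] at hw
  rw [h7, inv_mul_eq_iff_eq_mul₀ card_ne_zero] at hw
  have h13 : (3 * A : ℤ) = Nat.card G * w := by exact_mod_cast hw
  have h14 : w = 1 := by
    have : (3 * A : ℤ) ≤ Nat.card G := by exact_mod_cast h11
    have h0 : (0 : ℤ) < Nat.card G := by exact_mod_cast Nat.card_pos
    have : 0 < w := by nlinarith
    nlinarith
  rw [h7, hw, h14]
  simp

theorem exists_th [IsSimpleGroup G] : ∃ c c', Th B c c' := by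
  have hc : IsClassFunction G (th B) := fun g x => by
    rw [th, th, D.B_conj]
  have hg : IsGeneralizedCharacter G (th B) := isGen_of_inner_int hc fun χ hχ =>
    D.inner_int (isChar_star (isChar_of_irr hχ))
  have h1 : classInner (th B) (fun _ => 1) = 1 := by
    simp only [classInner, map_one, mul_one, D.sum_th, inv_mul_cancel₀ card_ne_zero]
  have h1' := (inner_gen_comm (isGen_of_irr isIrr_one) hg).trans h1
  have h2 : classInner (th B) (th B) = 3 := by
    have : ∀ g, th B g * conj (th B g) = 3 * th B g := fun g => by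
      simp only [th]; split_ifs <;> simp [map_ofNat]
    simp only [classInner, this, ← Finset.mul_sum, D.sum_th]
    rw [mul_left_comm, inv_mul_cancel₀ card_ne_zero, mul_one]
  have h3 : (th B - fun _ => 1 : G → ℂ) 1 = -1 := by simp [th, D.B_one]
  obtain ⟨φ, ψ, hφ, hψ, h4⟩ := norm_two (isGen_sub hg (isGen_of_irr isIrr_one)) (by
    rw [CharLib.inner_sub_left, CharLib.inner_sub_right, CharLib.inner_sub_right, h1, h1', h2,
      inner_irr_self isIrr_one]
    norm_num)
  obtain ⟨x, hx, hx'⟩ := isIrr_degree hφ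
  obtain ⟨y, hy, hy'⟩ := isIrr_degree hψ
  rcases h4 with h4 | h4 | h4
  · rw [h4, Pi.add_apply, hx', hy'] at h3
    have : (x + y : ℤ) = -1 := by exact_mod_cast h3
    omega
  swap
  · rw [h4, Pi.neg_apply, Pi.add_apply, hx', hy'] at h3
    have : -(x + y : ℤ) = -1 := by exact_mod_cast h3
    omega
  have h5 : φ 1 - ψ 1 = -1 := by rwa [h4] at h3
  have h6 : φ ≠ ψ := fun e => by simp [e] at h5
  have h7 : classInner φ (fun _ => 1) = classInner ψ (fun _ => 1) := by
    rw [← sub_eq_zero, ← CharLib.inner_sub_left, ← h4, CharLib.inner_sub_left, h1,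
      inner_irr_self isIrr_one, sub_self]
  have h8 : φ ≠ fun _ => 1 := fun e => by
    rw [e, inner_irr_self isIrr_one, inner_irr_ne hψ isIrr_one (e ▸ h6.symm)] at h7
    exact one_ne_zero h7
  have h9 : ψ ≠ fun _ => 1 := fun e => by
    rw [e, inner_irr_self isIrr_one, inner_irr_ne hφ isIrr_one h8] at h7
    exact zero_ne_one h7
  have h10 : ∀ g, th B g = 1 + φ g - ψ g := fun g => by
    have := congrFun h4 g
    simp only [Pi.sub_apply] at this
    linear_combination this
  have h0 : ∀ j : ℕ, j.Coprime (Nat.card G) → ∀ g, th B (g ^ j) = th B g := fun j hj g => by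
    rw [th, th, D.B_pow_iff (hj.coprime_dvd_right ⟨3 * m, by rw [D.card]; ring⟩)]
  have h11 : ∀ j : ℕ, j.Coprime (Nat.card G) → (fun g => φ (g ^ j)) = φ := fun j hj => by
    have e1 : ((fun g => φ (g ^ j)) - fun g => ψ (g ^ j)) = φ - ψ := funext fun g => by
      simp only [Pi.sub_apply]
      linear_combination h10 g - h10 (g ^ j) + h0 j hj g
    have e2 : (fun g => φ (g ^ j)) ≠ fun g => ψ (g ^ j) := fun e => by
      have := congrFun e 1
      simp only [one_pow] at this
      simp [this] at h5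
    refine (eq_or_eq_of_inner_sub_ne_zero (isIrr_pow hφ hj) hφ hψ ?_).resolve_right fun e => ?_
    · rw [← e1, CharLib.inner_sub_right, inner_irr_self (isIrr_pow hφ hj),
        inner_irr_ne (isIrr_pow hφ hj) (isIrr_pow hψ hj) e2]
      simp
    · have := congrFun e 1
      simp only [one_pow] at this
      simp [this] at h5
  have h14 : ∀ g (j : ℕ), j.Coprime (orderOf g) → φ (g ^ j) = φ g ∧ ψ (g ^ j) = ψ g :=
    fun g j hj => by
      obtain ⟨i, e1, e2⟩ := exists_cop (G := G) (orderOf_pos g).ne' hj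
      rw [← pow_eq_pow_iff_modEq.mpr e2]
      have e3 : φ (g ^ i) = φ g := congrFun (h11 i e1) g
      exact ⟨e3, by linear_combination h10 (g ^ i) - h10 g - h0 i e1 g + e3⟩
  have h12 : ∀ g, ∃ w : ℤ, φ g = w := fun g =>
    int_of_pow (isChar_of_irr hφ) fun j hj => (h14 g j hj).1
  have h13 : ∀ g, ∃ w : ℤ, ψ g = w := fun g => by
    obtain ⟨w, hw⟩ := h12 g
    have := h10 g
    simp only [th] at this
    split_ifs at this
    · exact ⟨1 + w, by push_cast; linear_combination this + hw⟩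
    · exact ⟨w - 2, by push_cast; linear_combination this + hw⟩
  choose c hc using h12
  choose c' hc' using h13
  obtain rfl : φ = fun g => (c g : ℂ) := funext hc
  obtain rfl : ψ = fun g => (c' g : ℂ) := funext hc'
  exact ⟨c, c', hφ, hψ, h8, h9, h10, fun g j hj => by simpa using h14 g j hj⟩

end Dat

end Cfsg.Agent.N9
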